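import Groth.Agent.Vanish.K95.KolVD
import Groth.Agent.Vanish.K912.KolRows
import Groth.Agent.Vanish.K660.AltThm
import Groth.Agent.Vanish.K661.TwDescMain

/-!
# Kollár's vanishing theorem with a fractional divisor, unconditionally

`kolvD`: the form `K912.KolRows.KolvD` used by the rows.
-/

set_option autoImplicit false
universe u
open CategoryTheory CategoryTheory.Limits AlgebraicGeometry

namespace K95.KolGlue

open Groth.Agent Groth.Agent.Vanish.K912.KolRows Groth.Agent.Grpsch.PicGrp Groth.Agent.Fga.JacFactor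
  Groth.Agent.Divis.EffCartier K931.Eff

theorem kolvD (k : Type u) [Field k] [IsAlgClosed k] [CharZero k] : KolvD.{u} k := by
  intro X _ _ _ _ n hn HX hHX Z _ _ _ HZ hHZ f hf _ ω hω L hL N hN r D hD α hα hM X₁ p hX₁ hp hps hsm hdim A₁ hA₁ hP
    μ _ a ha he _ b c hc
  have hE : BlowUp.IsEffCartierIdeal (∏ j, D j ^ α j) :=
    K661.MemPull.isEff_prod_pow' _ D (fun j => K911.Ncd.isEff_of_isNCD hD j) α
  obtain ⟨H, hH, rfl, hHa⟩ := ha
  rw [mk_tw hL N hM hE] at hP he
  exact K95.KolVD.main (K660.AltThm.alt k) (K661.TwDescMain.twDesc k) (K660.AltThm.ev k) n X hn HX hHX Z H hHa f hf ω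
    hω L hL N hN D hD α (fun j => (hα j).2) hE ⟨X₁, p, A₁, hX₁, hsm, hp, hps, hdim, hA₁, hP⟩ μ he b c hc

end K95.KolGlue
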