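import Groth.Agent.Vanish.K95.GenSec
import Groth.Agent.Vanish.K911.PullM
import Groth.Agent.HodgeNum.K882.Divisor
import Groth.Agent.VBCurve.K707.DetSplit

/-!
# Adjunction for a smooth divisor, in terms of isomorphism classes
-/

set_option autoImplicit false
universe u
open CategoryTheory CategoryTheory.Limits AlgebraicGeometry

namespace K95.AdjDiv

open Groth.Agent Groth.Agent.Fga.PicMon Groth.Agent.Pic13.H11.Cls K911.PullM

section Adj

open K882.IsoMon

/-- Adjunction: the canonical module of a smooth divisor. -/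
theorem adj {k : Type u} [Field k] [IsAlgClosed k] {X : Scheme.{u}} (p : X ⟶ Spec (CommRingCat.of k)) {n : ℕ}
    [IsSeparated p] [SmoothOfRelativeDimension (n + 1) p] (D : X.IdealSheafData) (hD : BlowUp.IsEffCartierIdeal D)
    [hs : Smooth (D.subschemeι ≫ p)] {W : X.Modules} (hW : ExtPow.IsExtPow (n + 1) (Omega.sheaf p) W)
    {V : D.subscheme.Modules} (hV : ExtPow.IsExtPow n (Omega.sheaf (D.subschemeι ≫ p)) V) :
    mc ((Scheme.Modules.pullback D.subschemeι).obj (ClSub.idealMod D)) * mc V =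
      mc ((Scheme.Modules.pullback D.subschemeι).obj W) := by
  have hsm : Smooth p := SmoothOfRelativeDimension.smooth (n + 1) p
  have hrel : SmoothOfRelativeDimension n (D.subschemeι ≫ p) := GenSec.relDim p D hD
  have hI : PicF.IsInvertible (ClSub.idealMod D) := Dix.IdealModCartier.isInvertible_idealMod hD
  have hΩ : FlatMod.IsFinLocFree (Omega.sheaf p) := Groth.Agent.Vancyc.H878.OmegaRank.isFinLocFree_omega _
  have hΩY : FlatMod.IsFinLocFree (Omega.sheaf (D.subschemeι ≫ p)) :=
    Groth.Agent.Vancyc.H878.OmegaRank.isFinLocFree_omega _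
  obtain ⟨AX, hAX⟩ := K882.Divisor.exists_pows hΩ
  obtain ⟨AY, hAY⟩ := K882.Divisor.exists_pows hΩY
  obtain ⟨T, hT, t1, t2, t3⟩ := K882.Divisor.exists_seq p D hI hΩ AX hAX AY hAY n
  have hz : IsZero (AY (n + 1)) := K707.DetSplit.isZero_extPow
    (Groth.Agent.Vancyc.H878.OmegaRank.isFinLocFreeOfRank_omega n (D.subschemeι ≫ p)) (hAY (n + 1))
  have hz3 : IsZero T.X₃ := hz.of_iso (c_eq_iff.1 t3).some
  have he : IsIso T.f := by
    have : Mono T.f := hT.mono_f
    have : Epi T.f := by
      exact (hT.exact.epi_f_iff).2 (hz3.eq_of_tgt _ _)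
    exact isIso_of_mono_of_epi _
  have e1 : c T.X₁ = c T.X₂ := c_iso (asIso T.f)
  have e2 : c V = c (AY n) := K882.Divisor.c_extPow_unique rfl hV (hAY n)
  obtain ⟨a⟩ := c_eq_iff.1 (K882.Divisor.c_extPow_unique rfl (hAX (n + 1)) hW : c (AX (n + 1)) = c W)
  have e3 : c (CohB1.tensorMod ((Scheme.Modules.pullback D.subschemeι).obj (ClSub.idealMod D)) V) =
      c ((Scheme.Modules.pullback D.subschemeι).obj W) := by
    rw [c_tensor, e2, ← t1, e1, t2]
    exact c_iso ((Scheme.Modules.pullback D.subschemeι).mapIso a)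
  rw [← mc_tensor]
  exact mc_eq (c_eq_iff.1 e3).some

end Adj

end K95.AdjDiv
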