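import Groth.Agent.Vanish.K660.Semi
import Groth.Agent.VarietyB.GGStalk

/-!
# Pull-back and products for `PosP`
-/

set_option autoImplicit false
universe u
open CategoryTheory CategoryTheory.Limits AlgebraicGeometry TopologicalSpace

namespace K95.PosPull

open Groth.Agent Groth.Agent.Grpsch.PicGrp Groth.Agent.Fga.JacFactor Groth.Agent.Divis.EffCartier
open K660.Semi K931.Eff

variable {X Y : Scheme.{u}}

/-- `c^N(-C)` is semi-ample for a fixed effective `C` and arbitrarily large `N`. -/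
def PosP {X : Scheme.{u}} (c : Pic X) : Prop :=
  ∃ (C : X.IdealSheafData) (hC : BlowUp.IsEffCartierIdeal C), ∀ N₀ : ℕ, ∃ N, N₀ ≤ N ∧ SA (c ^ N * dcl C hC)

theorem posP_of_sa {X : Scheme.{u}} {c : Pic X} (h : SA c) : PosP c :=
  ⟨⊤, isEff_top, fun N₀ => ⟨N₀, le_rfl, by rw [dcl_top, mul_one]; exact h.pow N₀⟩⟩

theorem ggc_pull (g : Y ⟶ X) {c : Pic X} (h : GGc c) : GGc (pull g c) := by
  obtain ⟨L, hL, rfl, hg⟩ := h
  exact ⟨_, Fdesc.LocGen.isInvertible_pullback g hL, pull_mk g hL,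
    VarietyB.GGStalk.isGloballyGenerated_pullback g _ hg⟩

theorem sa_pull (g : Y ⟶ X) {c : Pic X} (h : SA c) : SA (pull g c) := by
  obtain ⟨m, hm, h⟩ := h
  refine ⟨m, hm, ?_⟩
  rw [← map_pow]
  exact ggc_pull g h

theorem eff_inv_dcl [IsIntegral X] {D : X.IdealSheafData} (hD : BlowUp.IsEffCartierIdeal D) :
    Eff (dcl D hD)⁻¹ := by
  have h := (exists_mono_iff (A := ClSub.idealMod D) (B := Coh.structureModule X)
    (Dix.IdealModCartier.isInvertible_idealMod hD) Fdesc.LocGen.isInvertible_structureModule).1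
    ⟨ClSub.idealModι D, inferInstance⟩
  rw [← one_def, one_div] at h
  exact h

theorem posP_pull (g : Y ⟶ X) {c : Pic X} {C : X.IdealSheafData} (hC : BlowUp.IsEffCartierIdeal C)
    (h : ∀ N₀ : ℕ, ∃ N, N₀ ≤ N ∧ SA (c ^ N * dcl C hC)) (hC' : BlowUp.IsEffCartierIdeal (C.comap g)) :
    PosP (pull g c) := by
  refine ⟨C.comap g, hC', fun N₀ => ?_⟩
  obtain ⟨N, hN, hs⟩ := h N₀
  refine ⟨N, hN, ?_⟩
  rw [← K660.KolUp.pull_dcl g hC hC', ← map_pow, ← map_mul]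
  exact sa_pull g hs

theorem posP_mul_sa {c d : Pic X} (h : PosP c) (hd : SA d) : PosP (c * d) := by
  obtain ⟨C, hC, hN⟩ := h
  refine ⟨C, hC, fun N₀ => ?_⟩
  obtain ⟨N, hN₀, hs⟩ := hN N₀
  refine ⟨N, hN₀, ?_⟩
  rw [mul_pow, mul_right_comm]
  exact hs.mul (hd.pow N)

/-- `PosP c` from `PosP d` if `c ^ e = d ^ e`. -/
theorem posP_of_pow {c d : Pic X} {e : ℕ} (he : 0 < e) (h : PosP d) (hcd : c ^ e = d ^ e) : PosP c := by
  obtain ⟨C, hC, hN⟩ := h
  refine ⟨C ^ e, K660.KolUp.isEff_pow hC e, fun N₀ => ?_⟩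
  obtain ⟨N, hN₀, hs⟩ := hN N₀
  refine ⟨e * N, hN₀.trans (Nat.le_mul_of_pos_left N he), ?_⟩
  rw [K660.KolUp.dcl_pow hC e, pow_mul, hcd, ← pow_mul, mul_comm e N, pow_mul, ← mul_pow]
  exact hs.pow e

end K95.PosPull
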