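import Groth.Agent.Vanish.K27.Bert0
import Groth.Agent.Vanish.K27.JetBase
import Groth.Agent.Vanish.K27.Strata
import Groth.Agent.Vanish.K660.KolUp
import Groth.Agent.Variety.K420.DimDrop
import Groth.Agent.Fga.DimLt
import Groth.Agent.Divis.CartierStalk
import Groth.Agent.Lefpen.H703.ClosedSmooth
import Groth.Agent.Sga4h.CurveHat410

/-!
# General sections of globally generated invertible modules in characteristic zero

`exists_sec`: a section of a globally generated invertible module with smooth zero scheme avoiding finitely many points.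
`exists_finset`: the finitely many points to be avoided by a smooth divisor so that no component of it is contained in
a given effective Cartier divisor.  `relDim`: the relative dimension of a smooth divisor.
-/

set_option autoImplicit false
universe u
open CategoryTheory CategoryTheory.Limits AlgebraicGeometry TopologicalSpace

namespace K95.GenSec

open Groth.Agent K27.Bert0

section Sec

variable {k : Type u} [Field k] [IsAlgClosed k] [CharZero k] {X : Scheme.{u}} [X.Over (Spec (CommRingCat.of k))]
  [Smooth (X ↘ Spec (CommRingCat.of k))] [CompactSpace X]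

theorem exists_sec {G : X.Modules} (hG : PicF.IsInvertible G) (hgg : Curv2.IsGloballyGenerated G) (E : Finset X) :
    ∃ s : Coh.structureModule X ⟶ G,
      Smooth ((PicF2.zeroScheme G s).subschemeι ≫ (X ↘ Spec (CommRingCat.of k))) ∧
      ∀ x ∈ E, x ∉ (PicF2.zeroScheme G s).support := by
  classical
  have : Infinite k := IsAlgClosed.instInfinite
  obtain ⟨r, s, hs⟩ := K660.KolUp.exists_sections hG hgg
  obtain ⟨p, hp, hpc⟩ := exists_poly_isNCD (k := k) (X := X) (r := 0) (D := Fin.elim0)
    (fun x hT => (hT.some.1 : Fin 0).elim0) hG s hs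
  have h1 : ∀ x : X, ∃ i, x ∉ (PicF2.zeroScheme G (s i)).support := by
    intro x
    by_contra hx
    push Not at hx
    have h2 : (⨆ i, PicF2.zeroScheme G (s i)).support = ⊥ := by
      rw [hs, Scheme.IdealSheafData.support_top]
    have h3 : x ∈ ((⨆ i, PicF2.zeroScheme G (s i)).support : Set X) := by
      rw [Scheme.IdealSheafData.support_iSup]
      simpa using hx
    rw [h2] at h3
    exact h3
  choose i₀ hi₀ using h1
  choose q hq hqc using fun x : X => K27.JetBase.exists_poly_notMem (k := k) hG s x (i₀ x) (hi₀ x)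
  have hP : p * ∏ x ∈ E, q x ≠ 0 := mul_ne_zero hp (Finset.prod_ne_zero_iff.2 fun x _ => hq x)
  obtain ⟨a, ha⟩ := K660.KolUp.exists_eval_ne_zero (p * ∏ x ∈ E, q x) hP
  rw [map_mul, map_prod] at ha
  refine ⟨member k s a, ?_, fun x hx => hqc x a ?_⟩
  · have h2 := K27.Strata.smooth_component _ (hpc a (left_ne_zero_of_mul ha)) (Fin.last 0)
    rw [show snocD (Fin.elim0 : Fin 0 → X.IdealSheafData) (PicF2.zeroScheme G (member k s a)) (Fin.last 0) =
      PicF2.zeroScheme G (member k s a) from Fin.snoc_last _ _] at h2
    exact h2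
  · exact (Finset.prod_ne_zero_iff.1 (right_ne_zero_of_mul ha)) x hx

end Sec

section Avoid

/-- The points to be avoided. -/
theorem exists_finset (X : Scheme.{u}) [IsNoetherian X] (n : ℕ)
    (hdim : topologicalKrullDim X ≤ ((n + 1 : ℕ) : WithBot ℕ∞)) (C : X.IdealSheafData)
    (hC : BlowUp.IsEffCartierIdeal C) : ∃ E : Finset X, ∀ w : X, w ∈ C.support →
      topologicalKrullDim (closure ({w} : Set X)) = n → w ∈ E := by
  obtain ⟨S, hSf, hSc, hSi, hS⟩ := NoetherianSpace.exists_finite_set_isClosed_irreducible
    (α := X) (s := (C.support : Set X)) C.support.isClosed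
  have hinj : Function.Injective (fun w : X => closure ({w} : Set X)) := fun x y h =>
    (inseparable_iff_closure_eq.2 h).eq
  have hfin : ((fun w : X => closure ({w} : Set X)) ⁻¹' S).Finite := hSf.preimage hinj.injOn
  refine ⟨hfin.toFinset, fun w hw hd => ?_⟩
  rw [Set.Finite.mem_toFinset, Set.mem_preimage]
  have hwC : closure ({w} : Set X) ⊆ C.support := C.support.isClosed.closure_subset_iff.2 (by
    rw [Set.singleton_subset_iff]; exact hw)
  have hwi : IsIrreducible (closure ({w} : Set X)) := isIrreducible_singleton.closure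
  obtain ⟨t, htS, ht⟩ := isIrreducible_iff_sUnion_isClosed.1 hwi hSf.toFinset
    (fun t ht => hSc t (hSf.mem_toFinset.1 ht)) (by rw [hSf.coe_toFinset, ← hS]; exact hwC)
  rw [Set.Finite.mem_toFinset] at htS
  have htC : t ⊆ (C.support : Set X) := by
    rw [hS]; exact Set.subset_sUnion_of_mem htS
  have h1 : topologicalKrullDim t ≤ n :=
    (Topology.IsInducing.topologicalKrullDim_le (Topology.IsEmbedding.inclusion htC).isInducing).trans
      (K420.DimDrop.dim_support_le X n hdim C hC)
  have h2 : topologicalKrullDim t < ((n + 1 : ℕ) : WithBot ℕ∞) := h1.trans_lt (by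
    exact_mod_cast Nat.lt_succ_self n)
  by_cases hne : closure ({w} : Set X) = t
  · rw [hne]; exact htS
  · exact absurd hd (Fga.DimLt.topologicalKrullDim_lt (hSi t htS) isClosed_closure ht hne h2).ne

end Avoid

section Dim

open IsLocalRing

theorem relDim {k : Type u} [Field k] [IsAlgClosed k] {X : Scheme.{u}} (p : X ⟶ Spec (CommRingCat.of k)) {n : ℕ}
    [SmoothOfRelativeDimension (n + 1) p] (D : X.IdealSheafData) (hD : BlowUp.IsEffCartierIdeal D)
    [hs : Smooth (D.subschemeι ≫ p)] : SmoothOfRelativeDimension n (D.subschemeι ≫ p) := by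
  have hsm : Smooth p := SmoothOfRelativeDimension.smooth (n + 1) p
  rw [Lefpen.H703.ClosedSmooth.smoothOfRelativeDimension_iff]
  intro z hz
  have hx : IsClosed ({D.subschemeι z} : Set X) := by
    rw [← Set.image_singleton]
    exact D.subschemeι.isClosedEmbedding.isClosedMap _ hz
  have h1 := ((Lefpen.H703.ClosedSmooth.smoothOfRelativeDimension_iff p (n + 1)).1 inferInstance
    (D.subschemeι z) hx).2
  have hN : IsLocallyNoetherian X := LocallyOfFiniteType.isLocallyNoetherian p
  refine ⟨Lefpen.H705.ClosedPoint.isRegularLocalRing_stalk (D.subschemeι ≫ p) z, ?_⟩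
  obtain ⟨g, hg, hgI⟩ := Divis.CartierBasic.exists_stalkIdeal_eq_span hD (D.subschemeι z)
  have e := Divis.CartierStalk.stalkQuotEquiv D z
  have h2 := ringKrullDim_eq_of_ringEquiv e
  have hgm : g ∈ maximalIdeal (X.presheaf.stalk (D.subschemeι z)) := by
    rw [mem_maximalIdeal]
    intro hu
    have h3 : Divis.CartierBasic.stalkIdeal D (D.subschemeι z) = ⊤ := by
      rw [hgI]; exact Ideal.span_singleton_eq_top.2 hu
    have h4 : Subsingleton (X.presheaf.stalk (D.subschemeι z) ⧸ Divis.CartierBasic.stalkIdeal D (D.subschemeι z)) :=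
      Ideal.Quotient.subsingleton_iff.2 h3
    have h5 : Subsingleton (D.subscheme.presheaf.stalk z) := e.symm.toEquiv.subsingleton
    exact not_subsingleton _ h5
  have h3 := ringKrullDim_quotient_span_singleton_succ_eq_ringKrullDim_of_mem_nonZeroDivisors hg hgm
  rw [← hgI, h2, h1] at h3
  have h4 : ringKrullDim (D.subscheme.presheaf.stalk z) + 1 = (n : WithBot ℕ∞) + 1 := by
    rw [h3]; push_cast; rfl
  exact ENat.WithBot.add_one_cancel.1 h4

end Dim

end K95.GenSec
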