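import Groth.Agent.Vanish.K661.TwSurj
import Groth.Agent.Vanish.K661.MemPull
import Groth.Agent.Vanish.K95.PosPull

/-!
# Kollár's surjectivity with a fractional divisor and positivity on an alteration

`surjD`: `X` a projective manifold, `D` a normal crossing divisor, `α_j < N`, `M = L^N(-Σ α_j D_j)` with `PosP` on an
alteration (`AltPos`) and `M^μ(-I)` effective: `H^b(L⁻¹ ⊗ I) → H^b(L⁻¹)` is surjective (modulo `Alt`, `TwDesc`, `EV`).
-/

set_option autoImplicit false
universe u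

open CategoryTheory CategoryTheory.Limits AlgebraicGeometry Opposite TopologicalSpace

namespace K95.InjD

open Groth.Agent Groth.Agent.Grpsch.PicGrp Groth.Agent.Fga.JacFactor Groth.Agent.Divis.EffCartier
  Groth.Agent.Fdesc.LocGen K660.KolUp K660.Semi K931.Eff K909.AltInterface K661.MemPull K661.TwSurj K95.PosPull

section num

theorem kappa_cond {N t S β w : ℕ} (hN : 1 ≤ N) (hw : w < t) (hβ : β ≤ (N - 1) * S) :
    (t * β + w) / (N * t) = 0 ∨ (t * β + w) / (N * t) + 1 ≤ S := by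
  rcases Nat.eq_zero_or_pos S with hS | hS
  · left
    subst hS
    have hβ0 : β = 0 := by simpa using hβ
    subst hβ0
    apply Nat.div_eq_of_lt
    nlinarith
  · right
    apply Nat.div_lt_of_lt_mul
    obtain ⟨N', rfl⟩ : ∃ N', N = N' + 1 := ⟨N - 1, by omega⟩
    rw [Nat.add_sub_cancel] at hβ
    have h1 : t * β ≤ t * (N' * S) := Nat.mul_le_mul_left _ hβ
    have h2 : w < t * S := lt_of_lt_of_le hw (Nat.le_mul_of_pos_right _ hS)
    have h3 : (N' + 1) * t * S = t * (N' * S) + t * S := by ring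
    omega

theorem delta_ne {N t β w : ℕ} (hw : w < t) (hw0 : w ≠ 0) : (t * β + w) % (N * t) ≠ 0 := by
  intro h
  have h1 := Nat.dvd_of_mod_eq_zero h
  have h2 : t ∣ t * β + w := (Dvd.intro_left N rfl).trans h1
  have h3 : t ∣ w := (Nat.dvd_add_right (Dvd.intro β rfl)).1 h2
  exact absurd (Nat.le_of_dvd (Nat.pos_of_ne_zero hw0) h3) (not_le.2 hw)

/-- The components with positive multiplicities. -/
theorem exists_pos {s : ℕ} {M : Type*} [CommMonoid M] (E : Fin s → M) (δ : Fin s → ℕ) :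
    ∃ (r' : ℕ) (σ : Fin r' → Fin s), Function.Injective σ ∧ (∀ j, 0 < δ (σ j)) ∧
      ∀ x : Fin s → ℕ, (∀ i, x i ≠ 0 → δ i ≠ 0) → ∏ j, E (σ j) ^ x (σ j) = ∏ i, E i ^ x i := by
  classical
  let J : Finset (Fin s) := Finset.univ.filter fun j => δ j ≠ 0
  let e := J.equivFin
  refine ⟨J.card, fun j => (e.symm j).1, ?_, ?_, ?_⟩
  · intro i j h
    exact e.symm.injective (Subtype.ext h)
  · intro j
    exact Nat.pos_of_ne_zero (Finset.mem_filter.1 (e.symm j).2).2
  · intro x hx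
    rw [Equiv.prod_comp e.symm (fun j : J => E j.1 ^ x j.1)]
    rw [Finset.prod_coe_sort J (fun j => E j ^ x j)]
    apply Finset.prod_subset (Finset.filter_subset _ _)
    intro j _ hj
    have : x j = 0 := by
      by_contra h
      exact hj (Finset.mem_filter.2 ⟨Finset.mem_univ _, hx j h⟩)
    rw [this, pow_zero]

theorem aux {G : Type*} [CommGroup G] {ℓ z z₁ d I C F M : G} {N m μ t : ℕ} (ht : t = m + μ)
    (hM : M = ℓ ^ N * d) (hC : M ^ μ * I * C = 1) (h : z ^ (N * t) * z₁ = d ^ t * (C * I * F)) :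
    (ℓ * z) ^ (N * t) * z₁ = M ^ m * F := by
  have h1 : (ℓ * z) ^ (N * t) * z₁ = (ℓ ^ N * d) ^ t * (C * I * F) := by
    rw [mul_pow, mul_assoc, h, mul_pow (ℓ ^ N) d t, pow_mul]
    exact (mul_assoc _ _ _).symm
  rw [h1, ← hM, ht, pow_add]
  calc M ^ m * M ^ μ * (C * I * F) = M ^ m * F * (M ^ μ * I * C) := by
        simp only [mul_comm, mul_left_comm, mul_assoc]
    _ = _ := by rw [hC, mul_one]

end num

theorem gen {X X₁ : Scheme.{u}} [IsIntegral X] [IsIntegral X₁] (π : X₁ ⟶ X) [Surjective π] :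
    π (genericPoint X₁) = genericPoint X := by
  obtain ⟨x, hx⟩ := π.surjective (genericPoint X)
  have h1 : π (genericPoint X₁) ⤳ genericPoint X := by
    rw [← hx]
    exact ((genericPoint_spec X₁).specializes trivial).map π.continuous
  exact (h1.antisymm ((genericPoint_spec X).specializes trivial)).eq

/-- `c` has `PosP` on an alteration of `X` by a projective manifold. -/
def AltPos {k : Type u} [Field k] {X : Scheme.{u}} (f : X ⟶ Spec (CommRingCat.of k)) (c : Pic X) : Prop :=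
  ∃ (X₁ : Scheme.{u}) (p : X₁ ⟶ X) (A₁ : X₁.Modules), IsIntegral X₁ ∧ Smooth (p ≫ f) ∧ IsProper p ∧ Surjective p ∧
    topologicalKrullDim X₁ = topologicalKrullDim X ∧ CohB1.IsAmple A₁ ∧ PosP (pull p c)

variable {k : Type u} [Field k] [IsAlgClosed k] [CharZero k]

/-- Kollár's surjectivity. -/
theorem surjD (hAlt : Alt k) (hTw : TwDesc k) (hEV : EV k)
    {X : Scheme.{u}} (f : X ⟶ Spec (CommRingCat.of k)) [IsIntegral X] [IsProper f] [Smooth f]
    (n : ℕ) (hn : topologicalKrullDim X = n) (A : X.Modules) (hA : CohB1.IsAmple A) {L Linv : X.Modules}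
    (hL : PicF.IsInvertible L) (hLinv : ClSub.IsInverseOf Linv L) (N : ℕ) (hN : 1 ≤ N) {r : ℕ}
    (D : Fin r → X.IdealSheafData) (hD : LogNCD.IsNCD D f) (α : Fin r → ℕ)
    (hα : ∀ j, α j < N) (hP : BlowUp.IsEffCartierIdeal (∏ j, D j ^ α j))
    (hpos : AltPos f (mk L hL ^ N * dcl _ hP)) (I : X.IdealSheafData) (hI : BlowUp.IsEffCartierIdeal I) (μ : ℕ)
    (hsec : Eff ((mk L hL ^ N * dcl _ hP) ^ μ * dcl I hI)) (b : ℕ) : Surj (LogNCD.inclTwist Linv I) b := by
  have hXc : CompactSpace X := hA.2.1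
  have hXn : IsLocallyNoetherian X := LocallyOfFiniteType.isLocallyNoetherian f
  have hXN : IsNoetherian X := {}
  have hLi : PicF.IsInvertible Linv := (Dix.IdealModCartier.isInvertible_of_isInverseOf hLinv).1
  have hDe := fun j => K911.Ncd.isEff_of_isNCD hD j
  obtain ⟨C, hC, hCd⟩ := K660.Semi.Eff.exists_div hsec
  obtain ⟨X', p, A', hX', hpsm, hpp, hps, hpdim, hA', F, hF, hFN⟩ := hpos
  have hX'p : IsProper (p ≫ f) := inferInstance
  have hX'c : CompactSpace X' := hA'.2.1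
  have hX'n : IsLocallyNoetherian X' := LocallyOfFiniteType.isLocallyNoetherian (p ≫ f)
  have hX'N : IsNoetherian X' := {}
  have hηC : genericPoint X ∉ C.support := K660.Ram.genericPoint_notMem_support hC
  have hηI : genericPoint X ∉ I.support := K660.Ram.genericPoint_notMem_support hI
  have hηD : ∀ j, genericPoint X ∉ (D j).support := fun j => K660.Ram.genericPoint_notMem_support (hDe j)
  have hηF : genericPoint X' ∉ F.support := K660.Ram.genericPoint_notMem_support hF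
  -- the closed subset to be resolved
  let S₀ : Set X := ((C.support : Set X) ∪ (I.support : Set X)) ∪ ⋃ j, ((D j).support : Set X)
  have hS₀ : IsClosed S₀ := (C.support.isClosed.union I.support.isClosed).union
    (isClosed_iUnion_of_finite fun j => (D j).support.isClosed)
  have hηS₀ : genericPoint X ∉ S₀ := by
    rintro ((h | h) | h)
    · exact hηC h
    · exact hηI h
    · obtain ⟨j, hj⟩ := Set.mem_iUnion.1 h
      exact hηD j hj
  let S : Set X' := p ⁻¹' S₀ ∪ (F.support : Set X')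
  have hS : IsClosed S := (hS₀.preimage p.continuous).union F.support.isClosed
  have hηS : genericPoint X' ∉ S := by
    rintro (h | h)
    · exact hηS₀ (by rw [← gen p]; exact h)
    · exact hηF h
  obtain ⟨X₁, π, A₁, s, E, hX₁, hsm, hπ, hπs, hdim, hA₁, hE, hEint, hcov⟩ :=
    hAlt X' (p ≫ f) A' hA' S hS (fun h => hηS (by rw [h]; trivial))
  let q : X₁ ⟶ X := π ≫ p
  have hqf : q ≫ f = π ≫ p ≫ f := Category.assoc _ _ _
  have hE' : LogNCD.IsNCD E (q ≫ f) := by rw [hqf]; exact hE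
  have hqs : Surjective q := inferInstance
  have hqp : IsProper q := inferInstance
  have hqsm : Smooth (q ≫ f) := by rw [hqf]; exact hsm
  have hX₁p : IsProper (q ≫ f) := inferInstance
  have hX₁c : CompactSpace X₁ := hA₁.2.1
  have hX₁n : IsLocallyNoetherian X₁ := LocallyOfFiniteType.isLocallyNoetherian (q ≫ f)
  have hX₁N : IsNoetherian X₁ := {}
  have hdimq : topologicalKrullDim X₁ = topologicalKrullDim X := hdim.trans hpdim
  have hEe := fun j => K911.Ncd.isEff_of_isNCD hE' j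
  have hmult : ∀ {I' : X.IdealSheafData} (_ : BlowUp.IsEffCartierIdeal I') (_ : genericPoint X ∉ I'.support)
      (_ : ∀ x ∈ I'.support, x ∈ S₀), ∃ c : Fin s → ℕ, I'.comap q = ∏ i, E i ^ c i := by
    intro I' hI' hη hsub
    refine Groth.Agent.S1659.result X₁ (I'.comap q)
      (K660.Kol.isEff_comap_of_generic q hI' (by rw [gen q]; exact hη))
      s E hEe hEint fun x hx => Set.mem_iUnion.2 (hcov x (Or.inl ?_))
    exact hsub _ ((K911.Ncd.mem_support_comap I' q x).1 hx)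
  obtain ⟨c, hc⟩ := hmult hC hηC (fun x hx => Or.inl (Or.inl hx))
  obtain ⟨ι, hι⟩ := hmult hI hηI (fun x hx => Or.inl (Or.inr hx))
  choose a ha using fun j => hmult (hDe j) (hηD j) (fun x hx => Or.inr (Set.mem_iUnion.2 ⟨j, hx⟩))
  obtain ⟨φ, hφ⟩ : ∃ φ : Fin s → ℕ, F.comap π = ∏ i, E i ^ φ i := by
    refine Groth.Agent.S1659.result X₁ (F.comap π)
      (K660.Kol.isEff_comap_of_generic π hF (by rw [gen π]; exact hηF))
      s E hEe hEint fun x hx => Set.mem_iUnion.2 (hcov x (Or.inr ?_))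
    exact (K911.Ncd.mem_support_comap F π x).1 hx
  -- numerical data
  let w : Fin s → ℕ := fun i => c i + ι i + φ i
  obtain ⟨m, hm, hsa⟩ := hFN (∑ i, w i + 2)
  let t : ℕ := m + μ
  have hwt : ∀ i, w i < t := fun i => by
    have := Finset.single_le_sum (f := w) (fun i _ => Nat.zero_le _) (Finset.mem_univ i)
    omega
  have ht2 : 2 ≤ t := by omega
  have hM2 : 2 ≤ N * t := by nlinarith
  let β : Fin s → ℕ := fun i => ∑ j, α j * a j i
  have hβ : ∀ i, β i ≤ (N - 1) * ∑ j, a j i := fun i => by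
    rw [Finset.mul_sum]
    exact Finset.sum_le_sum fun j _ => Nat.mul_le_mul_right _ (by have := hα j; omega)
  let κ : Fin s → ℕ := fun i => (t * β i + w i) / (N * t)
  let δ : Fin s → ℕ := fun i => (t * β i + w i) % (N * t)
  have hκ : ∀ i, κ i = 0 ∨ κ i + 1 ≤ ∑ j, a j i := fun i => kappa_cond hN (hwt i) (hβ i)
  have hδ : ∀ i, δ i < N * t := fun i => Nat.mod_lt _ (by omega)
  have hκδ : ∀ i, κ i * (N * t) + δ i = t * β i + w i := fun i => Nat.div_add_mod' _ _
  have hιδ : ∀ i, ι i ≠ 0 → δ i ≠ 0 := fun i hi => delta_ne (hwt i) (by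
    change c i + ι i + φ i ≠ 0
    omega)
  -- classes
  have hprodE : ∀ x : Fin s → ℕ, BlowUp.IsEffCartierIdeal (∏ i, E i ^ x i) := isEff_prod_pow' _ E hEe
  let ε : Fin s → Pic X₁ := fun i => dcl (E i) (hEe i)
  have hε : ∀ (x : Fin s → ℕ) (h : BlowUp.IsEffCartierIdeal (∏ i, E i ^ x i)), dcl _ h = ∏ i, ε i ^ x i :=
    fun x h => dcl_prod _ E hEe x h
  have hεC : pull q (dcl C hC) = ∏ i, ε i ^ c i := by
    have h1 : BlowUp.IsEffCartierIdeal (C.comap q) := hc ▸ hprodE c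
    rw [pull_dcl q hC h1, dcl_eq hc h1 (hprodE c), hε]
  have hI₁ : BlowUp.IsEffCartierIdeal (I.comap q) := hι ▸ hprodE ι
  have hεI : pull q (dcl I hI) = ∏ i, ε i ^ ι i := by
    rw [pull_dcl q hI hI₁, dcl_eq hι hI₁ (hprodE ι), hε]
  have hεF : pull π (dcl F hF) = ∏ i, ε i ^ φ i := by
    have h1 : BlowUp.IsEffCartierIdeal (F.comap π) := hφ ▸ hprodE φ
    rw [pull_dcl π hF h1, dcl_eq hφ h1 (hprodE φ), hε]
  have hεD : ∀ j, pull q (dcl (D j) (hDe j)) = ∏ i, ε i ^ a j i := fun j => by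
    have h1 : BlowUp.IsEffCartierIdeal ((D j).comap q) := ha j ▸ hprodE (a j)
    rw [pull_dcl q (hDe j) h1, dcl_eq (ha j) h1 (hprodE (a j)), hε]
  have hεP : pull q (dcl _ hP) = ∏ i, ε i ^ β i := by
    rw [dcl_prod _ D hDe α hP, map_prod]
    simp only [map_pow, hεD, ← Finset.prod_pow, ← pow_mul]
    rw [Finset.prod_comm]
    refine Finset.prod_congr rfl fun i _ => ?_
    rw [Finset.prod_pow_eq_pow_sum]
    congr 1
    exact Finset.sum_congr rfl fun j _ => mul_comm _ _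
  -- `L₁`
  obtain ⟨T, hT, hTd⟩ := exists_mk (∏ i, ε i ^ κ i)⁻¹
  have hK := hprodE κ
  have hKI := Dix.IdealModCartier.isInvertible_idealMod hK
  have hKd : mk (ClSub.idealMod (∏ i, E i ^ κ i)) hKI = ∏ i, ε i ^ κ i := hε κ hK
  have hTI : ClSub.IsInverseOf T (ClSub.idealMod (∏ i, E i ^ κ i)) := by
    rw [isInverseOf_iff hT hKI, hKd, ← hTd, inv_mul_cancel]
  have hLπ := isInvertible_pullback q hL
  have hLiπ := isInvertible_pullback q hLi
  have hL₁ := isInvertible_tensorMod hLπ hKI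
  have hL₁i := isInvertible_tensorMod hLiπ hT
  have hLL : mk Linv hLi * mk L hL = 1 := (isInverseOf_iff hLi hL).1 hLinv
  have hL₁c : mk _ hL₁ = pull q (mk L hL) * ∏ i, ε i ^ κ i := by rw [← mk_mul_mk hLπ hKI, hKd, pull_mk]
  have hL₁inv : ClSub.IsInverseOf (CohB1.tensorMod ((Scheme.Modules.pullback q).obj Linv) T)
      (CohB1.tensorMod ((Scheme.Modules.pullback q).obj L) (ClSub.idealMod (∏ i, E i ^ κ i))) := by
    rw [isInverseOf_iff hL₁i hL₁, hL₁c, ← mk_mul_mk hLiπ hT, ← hTd, ← pull_mk q hLi]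
    have h1 : pull q (mk Linv hLi) * pull q (mk L hL) = 1 := by rw [← map_mul, hLL, map_one]
    calc pull q (mk Linv hLi) * (∏ i, ε i ^ κ i)⁻¹ * (pull q (mk L hL) * ∏ i, ε i ^ κ i) =
        pull q (mk Linv hLi) * pull q (mk L hL) * ((∏ i, ε i ^ κ i)⁻¹ * ∏ i, ε i ^ κ i) := by
          simp only [mul_comm, mul_left_comm, mul_assoc]
      _ = 1 := by rw [h1, inv_mul_cancel, mul_one]
  have hL₁M : mk _ hL₁ ^ (N * t) * ∏ i, ε i ^ δ i = pull π (pull p (mk L hL ^ N * dcl _ hP) ^ m * dcl F hF) := by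
    rw [hL₁c, map_mul, map_pow, ← pull_comp, hεF]
    refine aux (ℓ := pull q (mk L hL)) (z := ∏ i, ε i ^ κ i) (M := pull q (mk L hL ^ N * dcl _ hP)) (μ := μ)
      (d := ∏ i, ε i ^ β i) (I := ∏ i, ε i ^ ι i) (C := ∏ i, ε i ^ c i) (F := ∏ i, ε i ^ φ i) (t := t) rfl
      (by rw [map_mul, map_pow, hεP]) ?_ ?_
    · rw [← hεC, ← hεI, ← map_pow, ← map_mul, ← map_mul, hCd, mul_inv_cancel, map_one]
    · rw [← Finset.prod_pow, ← Finset.prod_pow, ← Finset.prod_mul_distrib, ← Finset.prod_mul_distrib,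
        ← Finset.prod_mul_distrib, ← Finset.prod_mul_distrib]
      refine Finset.prod_congr rfl fun i _ => ?_
      rw [← pow_mul, ← pow_add, ← pow_mul, ← pow_add, ← pow_add, ← pow_add, hκδ i, mul_comm t]
  -- surjectivity upstairs
  obtain ⟨r', σ, hσ, hσpos, hσprod⟩ := exists_pos E δ
  obtain ⟨G, hG, m', hm', hgg, hGe⟩ := (sa_pull π hsa).exists_rep
  have hCσ : BlowUp.IsEffCartierIdeal (∏ j, E (σ j) ^ δ (σ j)) := by
    rw [hσprod δ (fun i hi => hi)]
    exact hprodE δ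
  have hup := upstairs hEV (q ≫ f) n (hdimq.trans hn) A₁ hA₁ hL₁ hL₁inv (fun j => E (σ j))
    (K660.Kol.isNCD_comp hE' σ hσ) (fun j => δ (σ j)) (fun j => ι (σ j)) hσpos hG m' (N * t) hm' hgg hM2
    (fun j => hδ _) hCσ (by
      rw [← hGe, ← hL₁M, dcl_eq (hσprod δ (fun i hi => hi)) hCσ (hprodE δ), hε]) b
  rw [hσprod ι hιδ, ← hι] at hup
  exact hTw X X₁ f q hdimq ⟨A, hA⟩ ⟨A₁, hA₁⟩ r D hD s E hE' hEint a ha κ hκ T hT hTI _ _ (LogNCD.inclTwist Linv I) b
    (isInvertible_tensorMod hLi (Dix.IdealModCartier.isInvertible_idealMod hI)) hLi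
    (surj_tw_pullback q hLi hI hI₁ T hup)

end K95.InjD
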