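import Groth.Agent.Vanish.K95.RpNum
import Groth.Agent.Vanish.K95.GenSec
import Groth.Agent.RefCh.K939.GenHypCut
import Groth.Agent.Pic13.H11.Transf
import Groth.Agent.Vanish.K660.Inj
import Groth.Agent.Fga.EulerLEAdd
import Groth.Agent.Vanish.K95.InjD
import Groth.Agent.Vanish.K910.HZ
import Groth.Agent.Surf.K461.Canon
import Groth.Agent.Fga.HodgeSec

/-!
# Smooth divisors: the exact sequence, additivity of cohomology, adjunction
-/

set_option autoImplicit false
universe u
open CategoryTheory CategoryTheory.Limits AlgebraicGeometry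

namespace K95.SmDiv

open Groth.Agent Groth.Agent.Fga.PicMon Groth.Agent.Pic13.H11.Cls
open Groth.Agent.Pic13.H11.Transf (pushC pushC_mc co_pushC)
open Groth.Agent.Pic13.H11.NumU (toU toU_mk toU_mk_val toU_injective)
open K911.PullM K95.RpCls K95.RpNum Groth.Agent.Fga.RegSec
open Groth.Agent.Grpsch.PicGrp Groth.Agent.Fga.JacFactor Groth.Agent.Divis.EffCartier

section Gen

variable {X B : Scheme.{u}} (i : B ⟶ X)

theorem smul_pushC (w : (MC X)ˣ) (g : MC B) : w • pushC i g = pushC i (pullU i w • g) := by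
  rw [Groth.Agent.Pic13.H11.Transf.smul_pushC]
  congr 2
  obtain ⟨L, hL, hw⟩ := exists_invertible w
  have hw' : unit hL = w := Units.ext ((unit_val hL).trans hw)
  subst hw'
  apply Units.ext
  rw [Groth.Agent.Pic13.H11.NumU.pullU_unit_val, pullU_val, unit_val, pullM_mc]

/-- The cokernel of the multiplication by a section. -/
theorem coker_push [IsClosedImmersion i] {N : X.Modules} (hN : PicF.IsInvertible N)
    (s : Coh.structureModule X ⟶ N) (hi : i.ker = PicF2.zeroScheme N s) (F : X.Modules) :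
    mc (cokernel (mulS s F)) = pushC i (pullM i (unit hN • mc F)) := by
  have h1 := K939.GenHypCut.isIso_unit_cokernel hN s i hi F
  have h2 := K939.GenHypCut.isIso_pullback_π hN s i hi F
  let e1 : cokernel (mulS s F) ≅ (Scheme.Modules.pushforward i).obj
      ((Scheme.Modules.pullback i).obj (cokernel (mulS s F))) :=
    @asIso _ _ _ _ ((Scheme.Modules.pullbackPushforwardAdjunction i).unit.app (cokernel (mulS s F))) h1
  let e2 : (Scheme.Modules.pullback i).obj (CohB1.tensorMod N F) ≅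
      (Scheme.Modules.pullback i).obj (cokernel (mulS s F)) := @asIso _ _ _ _ _ h2
  rw [smul_def, unit_val, ← mc_tensor, pullM_mc, pushC_mc]
  exact mc_eq (e1 ≪≫ (Coh.push i).mapIso e2.symm)

theorem mulS_eq {F G : X.Modules} (s : Coh.structureModule X ⟶ G) :
    mulS s F = (K660.Frame.mulN s).app F ≫ (Ega2.Tens.swap F G).hom := by
  apply Scheme.Modules.hom_ext
  intro U
  ext t
  change (mulS s F).app U t = (Ega2.Tens.swap F G).hom.app U (((K660.Frame.mulN s).app F).app U t)
  rw [mulS_app, K660.Frame.mulN_app_app]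
  exact (Ega2.Tens.swapHom_tmul _ _).symm

variable (k : Type u) [Field k] [X.Over (Spec (CommRingCat.of k))] [IsProper (X ↘ Spec (CommRingCat.of k))]

/-- If `H^i(F') → H^i(F)` is injective for all `i`, then the cohomology is additive. -/
theorem of_inj {S : ShortComplex X.Modules} (hS : S.ShortExact) (c1 : Coh.IsCoh S.X₁) (c2 : Coh.IsCoh S.X₂)
    (c3 : Coh.IsCoh S.X₃) (hs : ∀ i, Function.Injective (VarietyA.EulerLES.mapA k S.f i)) (i : ℕ) :
    h k i (mc S.X₂) = h k i (mc S.X₁) + h k i (mc S.X₃) := by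
  have f1 := Fga.HodgeSec.finite_HH' k c1
  have f2 := Fga.HodgeSec.finite_HH' k c2
  have f3 := Fga.HodgeSec.finite_HH' k c3
  have e1 := VarietyA.EulerAdd.finrank_eq₁ k S hS i
  have e2 := VarietyA.EulerAdd.finrank_eq k S hS i
  have e3 := VarietyA.EulerAdd.finrank_eq₃ k S hS i
  have e4 : ∀ i, Module.finrank k (LinearMap.range (VarietyA.EulerLES.mapA k S.f i)) =
      Module.finrank k (Coh.HH X S.X₁ i) := fun i => LinearMap.finrank_range_of_inj (hs i)
  simp only [h_mc]
  rw [e4] at e1 e2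
  omega

end Gen

section Main

variable {k : Type u} [Field k] [IsAlgClosed k] [CharZero k] {X B : Scheme.{u}} [X.Over (Spec (CommRingCat.of k))]
  [IsIntegral X] [IsProper (X ↘ Spec (CommRingCat.of k))] [Smooth (X ↘ Spec (CommRingCat.of k))]

omit [IsAlgClosed k] [CharZero k] [Smooth (X ↘ Spec (CommRingCat.of k))] in
include k in
/-- The exact sequence of a divisor. -/
theorem ses_cut (i : B ⟶ X) [IsClosedImmersion i] {G F : X.Modules} (hG : PicF.IsInvertible G)
    (hF : PicF.IsInvertible F) (s : Coh.structureModule X ⟶ G) (hs : s ≠ 0)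
    (hi : i.ker = PicF2.zeroScheme G s) :
    Ses (mc F) (unit hG • mc F) (pushC i (pullM i (unit hG • mc F))) := by
  have hN : IsLocallyNoetherian X := LocallyOfFiniteType.isLocallyNoetherian (X ↘ Spec (CommRingCat.of k))
  have hm := Fga.HodgeSec.mono_mulS hG hF s hs
  have c1 : Coh.IsCoh F := Fga.HodgeSec.isCoh_of_isInvertible hF
  have c2 : Coh.IsCoh (CohB1.tensorMod G F) :=
    Fga.HodgeSec.isCoh_of_isInvertible (Fdesc.LocGen.isInvertible_tensorMod hG hF)
  have h1 := Ses.mk _ (K910.HZ.shortExact_mulS s hm) c1 c2 (Sga67.CohBasic.isCoh_cokernel _ c1.1 c2)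
  rw [← coker_push i hG s hi F, smul_def, unit_val, ← mc_tensor]
  exact h1

/-- Kollár's injectivity. -/
theorem injD (hAlt : K909.AltInterface.Alt k) (hTw : K661.TwSurj.TwDesc k) (hEV : K660.KolUp.EV k) (n : ℕ)
    (hn : topologicalKrullDim X = n) (A : X.Modules) (hA : CohB1.IsAmple A) {W : X.Modules}
    (hW : ExtPow.IsExtPow n (Omega.sheaf (X ↘ Spec (CommRingCat.of k))) W) {L : X.Modules}
    (hL : PicF.IsInvertible L) (N : ℕ) (hN : 1 ≤ N) {r : ℕ} (D : Fin r → X.IdealSheafData)
    (hD : LogNCD.IsNCD D (X ↘ Spec (CommRingCat.of k))) (α : Fin r → ℕ) (hα : ∀ j, α j < N)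
    (hP : BlowUp.IsEffCartierIdeal (∏ j, D j ^ α j))
    (hpos : InjD.AltPos (X ↘ Spec (CommRingCat.of k)) (mk L hL ^ N * dcl _ hP)) {G : X.Modules}
    (hG : PicF.IsInvertible G) (s : Coh.structureModule X ⟶ G) (hs : s ≠ 0) (ν : ℕ)
    (hν : K931.Eff.Eff ((mk L hL ^ N * dcl _ hP) ^ ν / mk G hG)) (c : ℕ) :
    Function.Injective (K660.KolUp.Hm ((K660.Frame.mulN s).app (CohB1.tensorMod W L)) c) := by
  have hcomp : CompactSpace X := hA.2.1
  have hLN : IsLocallyNoetherian X := LocallyOfFiniteType.isLocallyNoetherian (X ↘ Spec (CommRingCat.of k))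
  have hXN : IsNoetherian X := {}
  rcases le_or_gt c n with hcn | hcn
  · have hrel : SmoothOfRelativeDimension n (X ↘ Spec (CommRingCat.of k)) :=
      Picfga.CurveRelDim.smoothOfRelativeDimension_of_topologicalKrullDim_eq k X (X ↘ Spec (CommRingCat.of k)) n hn
    obtain ⟨Li, hLi, hLm⟩ := exists_mk (mk L hL)⁻¹
    have hLinv : ClSub.IsInverseOf Li L := by
      rw [K660.KolUp.isInverseOf_iff hLi hL, ← hLm, inv_mul_cancel]
    have hI := K513.Theta1.isEffCartierIdeal_zeroScheme hG s hs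
    have hdcl : dcl (PicF2.zeroScheme G s) hI = (mk G hG)⁻¹ := by
      rw [Groth.Agent.Fga.ZeroClass.mk_eq_inv_dcl hG (Fdesc.LocGen.sec s ⊤)
        (K513.Theta1.isZeroIdeal_zeroScheme hG s) hI, inv_inv]
    refine K660.Inj.hm_injective k n hW hL hG hLinv s hI (b := n - c) (c := c) (by omega)
      (InjD.surjD hAlt hTw hEV (X ↘ Spec (CommRingCat.of k)) n hn A hA hL hLinv N hN D hD α hα hP hpos _ hI ν ?_ _)
    rw [hdcl, ← div_eq_mul_inv]
    exact hν
  · have := Groth.Agent.Fga.EulerLEAdd.subsingleton_HH X n hn.le (CohB1.tensorMod W L) c hcn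
    exact fun x y _ => this.elim x y

/-- Additivity of cohomology. -/
theorem h_add (hAlt : K909.AltInterface.Alt k) (hTw : K661.TwSurj.TwDesc k) (hEV : K660.KolUp.EV k) (n : ℕ)
    (hn : topologicalKrullDim X = n) (A : X.Modules) (hA : CohB1.IsAmple A) {W : X.Modules}
    (hW : ExtPow.IsExtPow n (Omega.sheaf (X ↘ Spec (CommRingCat.of k))) W) {L : X.Modules}
    (hL : PicF.IsInvertible L) (N : ℕ) (hN : 1 ≤ N) {r : ℕ} (D : Fin r → X.IdealSheafData)
    (hD : LogNCD.IsNCD D (X ↘ Spec (CommRingCat.of k))) (α : Fin r → ℕ) (hα : ∀ j, α j < N)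
    (hP : BlowUp.IsEffCartierIdeal (∏ j, D j ^ α j))
    (hpos : InjD.AltPos (X ↘ Spec (CommRingCat.of k)) (mk L hL ^ N * dcl _ hP)) {G : X.Modules}
    (hG : PicF.IsInvertible G) (s : Coh.structureModule X ⟶ G) (hs : s ≠ 0) (ν : ℕ)
    (hν : K931.Eff.Eff ((mk L hL ^ N * dcl _ hP) ^ ν / mk G hG))
    (i : B ⟶ X) [IsClosedImmersion i] (hi : i.ker = PicF2.zeroScheme G s) (j : ℕ) :
    h k j (unit hG • mc (CohB1.tensorMod W L)) = h k j (mc (CohB1.tensorMod W L)) +
      h k j (pushC i (pullM i (unit hG • mc (CohB1.tensorMod W L)))) := by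
  have hLN : IsLocallyNoetherian X := LocallyOfFiniteType.isLocallyNoetherian (X ↘ Spec (CommRingCat.of k))
  have hWi : PicF.IsInvertible W := K461.Canon.isInvertible_of_dim k (X ↘ Spec (CommRingCat.of k)) n hn hW
  have hF : PicF.IsInvertible (CohB1.tensorMod W L) := Fdesc.LocGen.isInvertible_tensorMod hWi hL
  have hm := Fga.HodgeSec.mono_mulS hG hF s hs
  have c1 : Coh.IsCoh (CohB1.tensorMod W L) := Fga.HodgeSec.isCoh_of_isInvertible hF
  have c2 : Coh.IsCoh (CohB1.tensorMod G (CohB1.tensorMod W L)) :=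
    Fga.HodgeSec.isCoh_of_isInvertible (Fdesc.LocGen.isInvertible_tensorMod hG hF)
  have h1 := of_inj k (K910.HZ.shortExact_mulS s hm) c1 c2 (Sga67.CohBasic.isCoh_cokernel _ c1.1 c2)
    (fun i => ?_) j
  · rw [← coker_push i hG s hi, smul_def, unit_val, ← mc_tensor]
    exact h1
  · have h2 := injD hAlt hTw hEV n hn A hA hW hL N hN D hD α hα hP hpos hG s hs ν hν i
    have h3 : Function.Injective (K660.KolUp.Hm (mulS s (CohB1.tensorMod W L)) i) := by
      have h4 : Function.Injective (K660.KolUp.Hm (Ega2.Tens.swap (CohB1.tensorMod W L) G).hom i) :=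
        Function.LeftInverse.injective (g := K660.KolUp.Hm (Ega2.Tens.swap (CohB1.tensorMod W L) G).inv i)
          fun x => by rw [K660.KolUp.Hm_comp, Iso.hom_inv_id, K660.KolUp.Hm_id]
      intro x y hxy
      rw [mulS_eq, ← K660.KolUp.Hm_comp, ← K660.KolUp.Hm_comp] at hxy
      exact h2 (h4 hxy)
    exact h3

end Main


end K95.SmDiv
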