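import Groth.Agent.Vanish.K95.CompVan
import Groth.Agent.Vanish.K95.SmDiv
import Groth.Agent.Vanish.K95.AdjDiv
import Groth.Agent.Vanish.K95.PosPull

/-!
# Kollár's vanishing theorem with a fractional divisor

`main`: for a projective manifold `X` of dimension `n`, `f : X ⟶ Z` with `Z` proper with an ample module `H`, `W` the
canonical module, `D` a normal crossing divisor, `α_j < N`, `M = L^N(-Σ α_j D_j)` with `PosP` on an alteration and
`M^μ ⊗ f^*H⁻¹` effective: `H^c(Z, R^b f_*(W ⊗ L)) = 0` for `c > 0` (modulo `Alt`, `TwDesc`, `EV`).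
-/

set_option autoImplicit false
universe u
open CategoryTheory CategoryTheory.Limits AlgebraicGeometry TopologicalSpace

namespace K95.KolVD

open Groth.Agent Groth.Agent.Fga.PicMon Groth.Agent.Pic13.H11.Cls
open Groth.Agent.Pic13.H11.Transf (pushC pushC_mc co_pushC V_push)
open Groth.Agent.Grpsch.PicGrp Groth.Agent.Fga.JacFactor Groth.Agent.Divis.EffCartier
open K911.PullM K95.RpCls K95.RpNum K95.SmDiv K95.GenSec K95.PosPull K660.Semi K931.Eff K95.InjD

/-- Kollár's vanishing theorem in dimension `n`. -/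
def KV (k : Type u) [Field k] (n : ℕ) : Prop :=
  ∀ (X : Scheme.{u}) [X.Over (Spec (CommRingCat.of k))] [IsIntegral X] [IsProper (X ↘ Spec (CommRingCat.of k))]
    [Smooth (X ↘ Spec (CommRingCat.of k))], topologicalKrullDim X = n → ∀ (A : X.Modules), CohB1.IsAmple A →
    ∀ (Z : Scheme.{u}) [Z.Over (Spec (CommRingCat.of k))] [IsProper (Z ↘ Spec (CommRingCat.of k))]
    (H : Z.Modules) (hH : CohB1.IsAmple H) (f : X ⟶ Z),
    f ≫ (Z ↘ Spec (CommRingCat.of k)) = X ↘ Spec (CommRingCat.of k) →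
    ∀ (W : X.Modules), ExtPow.IsExtPow n (Omega.sheaf (X ↘ Spec (CommRingCat.of k))) W →
    ∀ (L : X.Modules) (hL : PicF.IsInvertible L) (N : ℕ), 1 ≤ N → ∀ (r : ℕ) (D : Fin r → X.IdealSheafData),
    LogNCD.IsNCD D (X ↘ Spec (CommRingCat.of k)) → ∀ (α : Fin r → ℕ), (∀ j, α j < N) →
    ∀ (hP : BlowUp.IsEffCartierIdeal (∏ j, D j ^ α j)),
    AltPos (X ↘ Spec (CommRingCat.of k)) (mk L hL ^ N * dcl _ hP) →
    ∀ (μ : ℕ), Eff ((mk L hL ^ N * dcl _ hP) ^ μ / pull f (mk H hH.1)) →
    ∀ j m, V (m + 1) (R f j (mc (CohB1.tensorMod W L)))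

theorem isSeparated (k : Type u) [Field k] (Z : Scheme.{u}) [Z.Over (Spec (CommRingCat.of k))]
    [IsProper (Z ↘ Spec (CommRingCat.of k))] : Z.IsSeparated := by
  rw [Scheme.isSeparated_iff, ← terminal.comp_from (Z ↘ Spec (CommRingCat.of k)), IsSeparated.comp_iff]
  infer_instance

theorem kv_zero (k : Type u) [Field k] : KV k 0 := by
  intro X _ _ _ _ hn A hA Z _ _ H hH f hf W hW L hL N _ r D _ α _ hP _ μ _ j m
  have hsep : Z.IsSeparated := isSeparated k Z
  have hWi : PicF.IsInvertible W := K461.Canon.isInvertible_of_dim k (X ↘ Spec (CommRingCat.of k)) 0 hn hW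
  exact CompVan.van_zero k X hn Z f hf (Fdesc.LocGen.isInvertible_tensorMod hWi hL) j m

theorem unit_eq_pullU {X Z : Scheme.{u}} (f : X ⟶ Z) {H : Z.Modules} (hH : PicF.IsInvertible H)
    (hG : PicF.IsInvertible ((Scheme.Modules.pullback f).obj H)) : unit hG = pullU f (unit hH) :=
  (pullU_unit f hH hG ⟨Iso.refl _⟩).symm

theorem unit_tensorPow {X : Scheme.{u}} {H : X.Modules} (hH : PicF.IsInvertible H) (q : ℕ)
    (h : PicF.IsInvertible (CohB1.tensorPow H q)) : unit h = unit hH ^ q := by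
  apply Units.ext
  rw [Units.val_pow_eq_pow_val, unit_val, unit_val, mc_tensorPow]

section Cut

variable {k : Type u} [Field k] [IsAlgClosed k] [CharZero k] {m : ℕ}

theorem comap_prod {X Y : Scheme.{u}} {ι : Type*} (s : Finset ι) (I : ι → Y.IdealSheafData) (α : ι → ℕ) (f : X ⟶ Y) :
    (∏ i ∈ s, I i ^ α i).comap f = ∏ i ∈ s, (I i).comap f ^ α i := by
  classical
  induction s using Finset.induction_on with
  | empty =>
    rw [Finset.prod_empty, Finset.prod_empty]
    have h := Groth.Agent.Divis.IdealComap.comap_pow (⊤ : Y.IdealSheafData) f 0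
    rwa [pow_zero, pow_zero] at h
  | insert a s ha ih =>
    rw [Finset.prod_insert ha, Finset.prod_insert ha, Groth.Agent.Divis.IdealComap.comap_mul,
      Groth.Agent.Divis.IdealComap.comap_pow, ih]

/-- The vanishing for a component of a general divisor, by induction. -/
theorem van_comp (ih : KV k m) (X : Scheme.{u}) [X.Over (Spec (CommRingCat.of k))] [IsIntegral X]
    [IsProper (X ↘ Spec (CommRingCat.of k))] [Smooth (X ↘ Spec (CommRingCat.of k))] [CompactSpace X]
    (A : X.Modules) (hA : CohB1.IsAmple A)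
    (Z : Scheme.{u}) [Z.Over (Spec (CommRingCat.of k))] [IsProper (Z ↘ Spec (CommRingCat.of k))]
    (H : Z.Modules) (hH : CohB1.IsAmple H) (f : X ⟶ Z)
    (hf : f ≫ (Z ↘ Spec (CommRingCat.of k)) = X ↘ Spec (CommRingCat.of k))
    (L : X.Modules) (hL : PicF.IsInvertible L) (N : ℕ) (hN : 1 ≤ N) {r : ℕ} (D : Fin r → X.IdealSheafData)
    (α : Fin r → ℕ) (hα : ∀ j, α j < N) (hP : BlowUp.IsEffCartierIdeal (∏ j, D j ^ α j))
    {X₁ : Scheme.{u}} [IsIntegral X₁] (π : X₁ ⟶ X) [IsProper π] [Surjective π]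
    (A₁ : X₁.Modules) (hA₁ : CohB1.IsAmple A₁)
    (B : X.IdealSheafData) (hNCD : LogNCD.IsNCD (K27.Bert0.snocD D B) (X ↘ Spec (CommRingCat.of k)))
    [hB : SmoothOfRelativeDimension m (B.subschemeι ≫ (X ↘ Spec (CommRingCat.of k)))]
    [hB₁ : SmoothOfRelativeDimension m ((B.comap π).subschemeι ≫ π ≫ (X ↘ Spec (CommRingCat.of k)))]
    (E : X.IdealSheafData) (hE : BlowUp.IsEffCartierIdeal E)
    (hEB : ∀ x, x ∈ E.support → topologicalKrullDim (closure ({x} : Set X)) = m → x ∉ B.support)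
    (F : X₁.IdealSheafData) (hF : BlowUp.IsEffCartierIdeal F)
    (hFB : ∀ x, x ∈ F.support → topologicalKrullDim (closure ({x} : Set X₁)) = m → π x ∉ B.support)
    (hFN : ∀ N₀ : ℕ, ∃ n, N₀ ≤ n ∧ SA (pull π (mk L hL ^ N * dcl _ hP) ^ n * dcl F hF))
    (μ : ℕ) (hμ : dcl E hE = ((mk L hL ^ N * dcl _ hP) ^ μ / pull f (mk H hH.1))⁻¹)
    (C : B.subscheme.Opens) (hC : IsClosed (C : Set B.subscheme)) [IsIntegral C.toScheme]
    (W : C.toScheme.Modules)
    (hW : ExtPow.IsExtPow m (Omega.sheaf ((C.ι ≫ B.subschemeι) ≫ (X ↘ Spec (CommRingCat.of k)))) W) (j l : ℕ) :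
    V (l + 1) (R ((C.ι ≫ B.subschemeι) ≫ f) j
      (mc (CohB1.tensorMod W ((Scheme.Modules.pullback (C.ι ≫ B.subschemeι)).obj L)))) := by
  have hLNX : IsLocallyNoetherian X := LocallyOfFiniteType.isLocallyNoetherian (X ↘ Spec (CommRingCat.of k))
  have hsmB : Smooth (B.subschemeι ≫ (X ↘ Spec (CommRingCat.of k))) := SmoothOfRelativeDimension.smooth m _
  have hsmB₁ : Smooth ((B.comap π).subschemeι ≫ π ≫ (X ↘ Spec (CommRingCat.of k))) :=
    SmoothOfRelativeDimension.smooth m _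
  have hcl : IsClosedImmersion C.ι := K660.ConnComp.isClosedImmersion_ι C hC
  have hX₁c : CompactSpace X₁ := hA₁.2.1
  have hX₁n : IsLocallyNoetherian X₁ := LocallyOfFiniteType.isLocallyNoetherian (π ≫ (X ↘ Spec (CommRingCat.of k)))
  have hB₁n : IsLocallyNoetherian (B.comap π).subscheme :=
    LocallyOfFiniteType.isLocallyNoetherian ((B.comap π).subschemeι ≫ π ≫ (X ↘ Spec (CommRingCat.of k)))
  have hB₁c : CompactSpace (B.comap π).subscheme := QuasiCompact.compactSpace_of_compactSpace (B.comap π).subschemeι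
  have hB₁N : IsNoetherian (B.comap π).subscheme := {}
  let g : C.toScheme ⟶ X := C.ι ≫ B.subschemeι
  let _ : C.toScheme.Over (Spec (CommRingCat.of k)) := ⟨g ≫ (X ↘ Spec (CommRingCat.of k))⟩
  have hgcl : IsClosedImmersion g := inferInstance
  have hover : (C.toScheme ↘ Spec (CommRingCat.of k)) = C.ι ≫ (B.subschemeι ≫ (X ↘ Spec (CommRingCat.of k))) :=
    Category.assoc _ _ _
  have hrel : SmoothOfRelativeDimension m (C.ι ≫ (B.subschemeι ≫ (X ↘ Spec (CommRingCat.of k)))) := by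
    have := (inferInstance : SmoothOfRelativeDimension (0 + m)
      (C.ι ≫ (B.subschemeι ≫ (X ↘ Spec (CommRingCat.of k)))))
    rwa [zero_add] at this
  have hsm : Smooth (C.toScheme ↘ Spec (CommRingCat.of k)) := by
    rw [hover]; exact SmoothOfRelativeDimension.smooth m _
  have hpr : IsProper (C.toScheme ↘ Spec (CommRingCat.of k)) :=
    inferInstanceAs (IsProper (g ≫ (X ↘ Spec (CommRingCat.of k))))
  have hdim : topologicalKrullDim C.toScheme = m :=
    Sga4h.CurveHat410.topologicalKrullDim_eq (C.ι ≫ (B.subschemeι ≫ (X ↘ Spec (CommRingCat.of k)))) m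
  have hgenB : ∀ y, g y ∈ B.support := fun y => by
    rw [show g y = B.subschemeι (C.ι y) from rfl]
    have : (B.support : Set X) = Set.range B.subschemeι := B.range_subschemeι.symm
    rw [← SetLike.mem_coe, this]
    exact ⟨_, rfl⟩
  have hcldim : ∀ {T Y : Scheme.{u}} [IsIntegral T] (i : T ⟶ Y) [IsClosedImmersion i],
      topologicalKrullDim T = m → topologicalKrullDim (closure ({i (genericPoint T)} : Set Y)) = m := by
    intro T Y _ i _ hT
    have h1 : closure ({i (genericPoint T)} : Set Y) = Set.range i := by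
      rw [← Set.image_singleton, i.isClosedEmbedding.isClosedMap.closure_image_eq_of_continuous i.continuous,
        genericPoint_closure, Set.image_univ]
    rw [h1, ← hT]
    exact (IsHomeomorph.topologicalKrullDim_eq _
      i.isClosedEmbedding.isEmbedding.toHomeomorph.isHomeomorph).symm
  -- the divisor
  have hNr : LogNCD.IsNCD (fun i => (D i).comap B.subschemeι) (B.subschemeι ≫ (X ↘ Spec (CommRingCat.of k))) :=
    K661.NcdRes.isNCD_restrict (X ↘ Spec (CommRingCat.of k)) D B hNCD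
  have hNg : LogNCD.IsNCD (fun i => (D i).comap g) (C.toScheme ↘ Spec (CommRingCat.of k)) := by
    rw [hover]
    have h1 := K660.NcdEt.isNCD_comap_of_etale C.ι hNr
    have h2 : (fun i => ((D i).comap B.subschemeι).comap C.ι) = fun i => (D i).comap g := by
      funext i
      exact (Scheme.IdealSheafData.comap_comp _ _ _).symm
    rwa [h2] at h1
  have hPg : BlowUp.IsEffCartierIdeal (∏ i, (D i).comap g ^ α i) :=
    K661.MemPull.isEff_prod_pow' _ _ (fun i => K911.Ncd.isEff_of_isNCD hNg i) α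
  have hcm : (∏ i, D i ^ α i).comap g = ∏ i, (D i).comap g ^ α i := comap_prod _ _ _ _
  have hP' : BlowUp.IsEffCartierIdeal ((∏ i, D i ^ α i).comap g) := hcm ▸ hPg
  have hLg := Fdesc.LocGen.isInvertible_pullback g hL
  have hM : mk _ hLg ^ N * dcl _ hPg = pull g (mk L hL ^ N * dcl _ hP) := by
    rw [map_mul, map_pow, pull_mk, K660.KolUp.pull_dcl g hP hP', K661.MemPull.dcl_eq hcm hP' hPg]
  -- the alteration
  obtain ⟨C₁, q, hC₁, hint₁, hfac, hqs, hqp⟩ :=
    PairSec.exists_comp (X ↘ Spec (CommRingCat.of k)) π B C hC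
  have hcl₁ : IsClosedImmersion C₁.ι := K660.ConnComp.isClosedImmersion_ι C₁ hC₁
  let g₁ : C₁.toScheme ⟶ X₁ := C₁.ι ≫ (B.comap π).subschemeι
  have hfac' : q ≫ g = g₁ ≫ π := hfac.trans (Category.assoc _ _ _).symm
  have hrel₁ : SmoothOfRelativeDimension m
      (C₁.ι ≫ ((B.comap π).subschemeι ≫ π ≫ (X ↘ Spec (CommRingCat.of k)))) := by
    have := (inferInstance : SmoothOfRelativeDimension (0 + m)
      (C₁.ι ≫ ((B.comap π).subschemeι ≫ π ≫ (X ↘ Spec (CommRingCat.of k)))))
    rwa [zero_add] at this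
  have hdim₁ : topologicalKrullDim C₁.toScheme = m :=
    Sga4h.CurveHat410.topologicalKrullDim_eq
      (C₁.ι ≫ ((B.comap π).subschemeι ≫ π ≫ (X ↘ Spec (CommRingCat.of k)))) m
  have hover₁ : q ≫ (C.toScheme ↘ Spec (CommRingCat.of k)) =
      C₁.ι ≫ ((B.comap π).subschemeι ≫ π ≫ (X ↘ Spec (CommRingCat.of k))) := by
    change q ≫ g ≫ (X ↘ Spec (CommRingCat.of k)) = _
    rw [reassoc_of% hfac']
    exact Category.assoc _ _ _
  have hFg : BlowUp.IsEffCartierIdeal (F.comap g₁) := by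
    refine K660.Kol.isEff_comap_of_generic g₁ hF fun hg => ?_
    refine hFB _ hg (hcldim g₁ hdim₁) ?_
    rw [show π (g₁ (genericPoint C₁.toScheme)) = (g₁ ≫ π) (genericPoint C₁.toScheme) from rfl, ← hfac']
    exact hgenB _
  have hpos : AltPos (C.toScheme ↘ Spec (CommRingCat.of k)) (mk _ hLg ^ N * dcl _ hPg) := by
    refine ⟨C₁.toScheme, q, (Scheme.Modules.pullback g₁).obj A₁, hint₁, ?_, hqp, hqs, hdim₁.trans hdim.symm,
      Sga5.AmpleFib.isAmple_pullback g₁ hA₁, ?_⟩
    · rw [hover₁]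
      exact SmoothOfRelativeDimension.smooth m _
    · rw [hM, ← pull_comp, hfac', pull_comp]
      exact posP_pull g₁ hF hFN hFg
  have hEg : BlowUp.IsEffCartierIdeal (E.comap g) :=
    K660.Kol.isEff_comap_of_generic g hE fun hg => hEB _ hg (hcldim g hdim) (hgenB _)
  refine ih C.toScheme hdim ((Scheme.Modules.pullback g).obj A) (Sga5.AmpleFib.isAmple_pullback g hA) Z H hH
    (g ≫ f) (by rw [Category.assoc, hf]; rfl) W hW ((Scheme.Modules.pullback g).obj L) hLg N hN r
    (fun i => (D i).comap g) hNg α hα hPg hpos μ ?_ j l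
  have h1 : (mk _ hLg ^ N * dcl _ hPg) ^ μ / pull (g ≫ f) (mk H hH.1) = (dcl (E.comap g) hEg)⁻¹ := by
    rw [hM, ← K660.KolUp.pull_dcl g hE hEg, hμ, pull_comp g f, map_inv, map_div, map_pow, inv_inv]
  rw [h1]
  exact eff_inv_dcl hEg

end Cut

section Step

variable {k : Type u} [Field k] [IsAlgClosed k] [CharZero k]

/-- The inductive step. -/
theorem kv_succ (hAlt : K909.AltInterface.Alt k) (hTw : K661.TwSurj.TwDesc k) (hEV : K660.KolUp.EV k) {m : ℕ}
    (ih : KV k m) : KV k (m + 1) := by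
  intro X _ _ _ _ hn A hA Z _ _ H hH f hf W hW L hL N hN r D hNCD α hα hP hpos μ hμ j l
  classical
  have hWi : PicF.IsInvertible W := K461.Canon.isInvertible_of_dim k (X ↘ Spec (CommRingCat.of k)) (m + 1) hn hW
  have hF : PicF.IsInvertible (CohB1.tensorMod W L) := Fdesc.LocGen.isInvertible_tensorMod hWi hL
  have hc : Co (mc (CohB1.tensorMod W L)) := Fga.HodgeSec.isCoh_of_isInvertible hF
  have hLN : IsLocallyNoetherian X := LocallyOfFiniteType.isLocallyNoetherian (X ↘ Spec (CommRingCat.of k))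
  have hXc : CompactSpace X := hA.2.1
  have hXN : IsNoetherian X := {}
  have hLNZ : IsLocallyNoetherian Z := LocallyOfFiniteType.isLocallyNoetherian (Z ↘ Spec (CommRingCat.of k))
  have hZc : CompactSpace Z := hH.2.1
  have hZs : Z.IsSeparated := isSeparated k Z
  have hpf : IsProper f := isProper_f k f hf
  -- choice of the power of `H`
  obtain ⟨d, hd⟩ := CohqA.RelCoh.exists_bound_Rpush f
  choose N' hNs using fun j => serre k hH (Co_R f j hc)
  obtain ⟨n₀, h0, hn₀⟩ := Amp.eventually_ggc ((amp_mk hH.1).2 hH) 1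
  obtain ⟨q, hq, hqN⟩ : ∃ q : ℕ, n₀ ≤ q ∧ ∀ j, j < d → N' j ≤ q :=
    ⟨n₀ + (Finset.range d).sup N', Nat.le_add_right _ _, fun j hj =>
      (Finset.le_sup (f := N') (Finset.mem_range.2 hj)).trans (Nat.le_add_left _ _)⟩
  have hq0 : 0 < q := h0.trans_le hq
  have hHq : PicF.IsInvertible (CohB1.tensorPow H q) := Fdesc.LocGen.isInvertible_tensorPow hH.1 q
  have hH' : CohB1.IsAmple (CohB1.tensorPow H q) := by
    have h1 := Amp.pow ((amp_mk hH.1).2 hH) hq0
    rwa [← mk_tensorPow, amp_mk] at h1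
  have hgg' : Curv2.IsGloballyGenerated (CohB1.tensorPow H q) := by
    have h1 := hn₀ q hq
    rwa [mul_one, ← mk_tensorPow, ggc_mk] at h1
  have hVb : ∀ j i, 0 < i → V i (unit hH'.1 • R f j (mc (CohB1.tensorMod W L))) := by
    intro j i hi
    rw [unit_tensorPow hH.1 q hH'.1]
    by_cases hj : j < d
    · exact hNs j q (hqN j hj) i hi
    · refine V_of_Zr (Zr.smul ?_ _) _
      exact hd _ hc.1 j (not_lt.1 hj)
  let G := (Scheme.Modules.pullback f).obj (CohB1.tensorPow H q)
  have hG : PicF.IsInvertible G := Fdesc.LocGen.isInvertible_pullback f hH'.1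
  have hgg : Curv2.IsGloballyGenerated G := VarietyB.GGStalk.isGloballyGenerated_pullback f _ hgg'
  have hGU : unit hG = pullU f (unit hH'.1) := unit_eq_pullU f hH'.1 hG
  have hmkG : mk G hG = pull f (mk _ hH'.1) := (pull_mk f hH'.1).symm
  have hmkG' : mk G hG = pull f (mk H hH.1) ^ q := by rw [hmkG, mk_tensorPow, map_pow]
  have hE : Eff ((mk L hL ^ N * dcl _ hP) ^ (μ * q) / mk G hG) := by
    rw [hmkG', pow_mul, ← div_pow]
    exact hμ.pow q
  -- the divisors to be avoided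
  obtain ⟨X₁, π, A₁, hX₁, hsm₁, hπp, hπs, hdim₁, hA₁, C, hC, hCN⟩ := hpos
  have hX₁c : CompactSpace X₁ := hA₁.2.1
  let _ : X₁.Over (Spec (CommRingCat.of k)) := ⟨π ≫ (X ↘ Spec (CommRingCat.of k))⟩
  have hX₁p : IsProper (X₁ ↘ Spec (CommRingCat.of k)) :=
    inferInstanceAs (IsProper (π ≫ (X ↘ Spec (CommRingCat.of k))))
  have hX₁s : Smooth (X₁ ↘ Spec (CommRingCat.of k)) := hsm₁
  have hX₁n : IsLocallyNoetherian X₁ := LocallyOfFiniteType.isLocallyNoetherian (X₁ ↘ Spec (CommRingCat.of k))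
  have hX₁N : IsNoetherian X₁ := {}
  have hn₁ : topologicalKrullDim X₁ = ((m + 1 : ℕ) : WithBot ℕ∞) := hdim₁.trans hn
  obtain ⟨D', hD', hdD⟩ := Eff.exists_div hE
  obtain ⟨E1, hE1⟩ := exists_finset X₁ m hn₁.le C hC
  obtain ⟨E2, hE2⟩ := exists_finset X m hn.le D' hD'
  obtain ⟨s, hsN, hsm, hav⟩ := PairSec.exists_sec₂ (k := k) π rfl D hNCD hG hgg
    (E1.image π ∪ E2 ∪ {genericPoint X})
  have hgs : genericPoint X ∉ (PicF2.zeroScheme G s).support := hav (genericPoint X) (by simp)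
  have hs0 : s ≠ 0 := by
    refine ne_zero_of_mem_genLocus s (x := genericPoint X) ?_
    by_contra h
    exact hgs ((Pi1C.ZeroScheme.mem_support_iff s hG _).2 h)
  let B := PicF2.zeroScheme G s
  have hB : BlowUp.IsEffCartierIdeal B := K513.Theta1.isEffCartierIdeal_zeroScheme hG s hs0
  have hker : B.subschemeι.ker = PicF2.zeroScheme G s := B.ker_subschemeι
  have hrelX : SmoothOfRelativeDimension (m + 1) (X ↘ Spec (CommRingCat.of k)) :=
    Picfga.CurveRelDim.smoothOfRelativeDimension_of_topologicalKrullDim_eq k X (X ↘ Spec (CommRingCat.of k)) (m + 1) hn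
  have hrelX₁ : SmoothOfRelativeDimension (m + 1) (X₁ ↘ Spec (CommRingCat.of k)) :=
    Picfga.CurveRelDim.smoothOfRelativeDimension_of_topologicalKrullDim_eq k X₁ (X₁ ↘ Spec (CommRingCat.of k))
      (m + 1) hn₁
  have hBs : Smooth (B.subschemeι ≫ (X ↘ Spec (CommRingCat.of k))) := by
    have h2 := K27.Strata.smooth_component _ hsN (Fin.last r)
    rwa [show K27.Bert0.snocD D (PicF2.zeroScheme G s) (Fin.last r) = PicF2.zeroScheme G s from
      Fin.snoc_last _ _] at h2
  have hrel : SmoothOfRelativeDimension m (B.subschemeι ≫ (X ↘ Spec (CommRingCat.of k))) :=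
    relDim (X ↘ Spec (CommRingCat.of k)) B hB
  have hB₁ : BlowUp.IsEffCartierIdeal (B.comap π) :=
    K660.Kol.isEff_comap_of_generic π hB (by rw [InjD.gen π]; exact hgs)
  have hrel₁ : SmoothOfRelativeDimension m ((B.comap π).subschemeι ≫ π ≫ (X ↘ Spec (CommRingCat.of k))) :=
    relDim (X₁ ↘ Spec (CommRingCat.of k)) (B.comap π) hB₁
  have hses := ses_cut (k := k) B.subschemeι hG hF s hs0 hker
  have bd : ∀ (c : MC X), ∃ M : ℕ, ∀ (w : (MC X)ˣ) i, M ≤ i → V i (w • c) := fun c =>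
    ⟨m + 2, fun w i hi => by
      induction (w • c) using MC.ind with | h M => ?_
      exact Fga.EulerLEAdd.subsingleton_HH X (m + 1) hn.le M i (by omega)⟩
  have bd' : ∀ (c : MC X), ∃ M : ℕ, ∀ i, M ≤ i → V i c := fun c => by
    obtain ⟨M, hM⟩ := bd c
    exact ⟨M, fun i hi => by have := hM 1 i hi; rwa [one_smul] at this⟩
  have hh : ∀ l j : ℕ, h k j (pullU f ((unit hH'.1) ^ l) • (unit hG • mc (CohB1.tensorMod W L))) =
      h k j (pullU f ((unit hH'.1) ^ l) • mc (CohB1.tensorMod W L)) +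
      h k j (pullU f ((unit hH'.1) ^ l) •
        pushC B.subschemeι (pullM B.subschemeι (unit hG • mc (CohB1.tensorMod W L)))) := by
    intro l j
    have hGl : PicF.IsInvertible (CohB1.tensorPow G l) := Fdesc.LocGen.isInvertible_tensorPow hG l
    have hLl : PicF.IsInvertible (CohB1.tensorMod L (CohB1.tensorPow G l)) :=
      Fdesc.LocGen.isInvertible_tensorMod hL hGl
    have e1 : mk _ hLl ^ N * dcl _ hP = mk L hL ^ N * dcl _ hP * mk G hG ^ (l * N) := by
      rw [← mk_mul_mk hL hGl, mk_tensorPow, mul_pow, ← pow_mul, mul_right_comm]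
    have hsaG : SA (mk G hG) := ⟨1, one_pos, by rw [pow_one, ggc_mk]; exact hgg⟩
    have hPl : AltPos (X ↘ Spec (CommRingCat.of k)) (mk _ hLl ^ N * dcl _ hP) := by
      refine ⟨X₁, π, A₁, hX₁, hsm₁, hπp, hπs, hdim₁, hA₁, ?_⟩
      rw [e1, map_mul]
      exact posP_mul_sa ⟨C, hC, hCN⟩ (sa_pull π (hsaG.pow (l * N)))
    have hEl : Eff ((mk _ hLl ^ N * dcl _ hP) ^ (μ * q) / mk G hG) := by
      rw [e1, mul_pow (mk L hL ^ N * dcl _ hP), mul_div_right_comm, ← pow_mul]
      exact hE.mul (Eff.pow ((eff_mk hG).2 ⟨s, hs0⟩) _)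
    have h1 := h_add hAlt hTw hEV (m + 1) hn A hA hW hLl N hN D hNCD α hα hP hPl hG s hs0 (μ * q) hEl
      B.subschemeι hker j
    have e2 : mc (CohB1.tensorMod W (CohB1.tensorMod L (CohB1.tensorPow G l))) =
        pullU f ((unit hH'.1) ^ l) • mc (CohB1.tensorMod W L) := by
      rw [map_pow, ← hGU, smul_def, Units.val_pow_eq_pow_val, unit_val, mc_tensor, mc_tensor, mc_tensor,
        mc_tensorPow]
      simp only [mul_comm, mul_left_comm, mul_assoc]
    rw [e2] at h1
    have e3 : pullU f ((unit hH'.1) ^ l) •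
        pushC B.subschemeι (pullM B.subschemeι (unit hG • mc (CohB1.tensorMod W L))) =
        pushC B.subschemeι (pullM B.subschemeι (unit hG • pullU f ((unit hH'.1) ^ l) •
          mc (CohB1.tensorMod W L))) := by
      rw [smul_pushC, ← pullM_smul, smul_comm]
    rw [e3, smul_comm (pullU f ((unit hH'.1) ^ l)) (unit hG) (mc (CohB1.tensorMod W L))]
    exact h1
  have hh0 : ∀ j : ℕ, h k j (unit hG • mc (CohB1.tensorMod W L)) = h k j (mc (CohB1.tensorMod W L)) +
      h k j (pushC B.subschemeι (pullM B.subschemeι (unit hG • mc (CohB1.tensorMod W L)))) := fun j => by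
    have := hh 0 j
    simpa only [pow_zero, map_one, one_smul] using this
  have vb : ∀ j m, V (m + 1) (R f j (unit hG • mc (CohB1.tensorMod W L))) := by
    intro j m
    rw [hGU, R_smul]
    exact hVb j (m + 1) (Nat.succ_pos m)
  have vc : ∀ j l, V (l + 1) (R f j
      (pushC B.subschemeι (pullM B.subschemeι (unit hG • mc (CohB1.tensorMod W L))))) := by
    intro j l
    obtain ⟨V', hV'⟩ := Dual.H366.ExtQCoh.exists_isExtPow m
      (Dual.H328.ClopenGlue.isQCoh_omega (B.subschemeι ≫ (X ↘ Spec (CommRingCat.of k))))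
    have hadj := AdjDiv.adj (X ↘ Spec (CommRingCat.of k)) B hB hW hV'
    have hGI : mc G * mc (ClSub.idealMod B) = 1 := by
      have h1 := Fga.ZeroClass.mk_eq_inv_dcl hG (Fdesc.LocGen.sec s ⊤) (K513.Theta1.isZeroIdeal_zeroScheme hG s) hB
      have h2 : ClSub.IsInverseOf G (ClSub.idealMod B) := by
        rw [K660.KolUp.isInverseOf_iff hG (Dix.IdealModCartier.isInvertible_idealMod hB), h1]
        exact inv_mul_cancel _
      exact K911.DivCls.isInverseOf_iff.1 h2
    have e1 : pullM B.subschemeι (unit hG • mc (CohB1.tensorMod W L)) =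
        mc V' * pullM B.subschemeι (mc L) := by
      rw [smul_def, unit_val, mc_tensor, map_mul, map_mul, pullM_mc B.subschemeι W, ← hadj,
        ← pullM_mc B.subschemeι (ClSub.idealMod B)]
      have h3 : pullM B.subschemeι (mc G) * pullM B.subschemeι (mc (ClSub.idealMod B)) = 1 := by
        rw [← map_mul, hGI, map_one]
      calc pullM B.subschemeι (mc G) * (pullM B.subschemeι (mc (ClSub.idealMod B)) * mc V' *
            pullM B.subschemeι (mc L)) =
          (pullM B.subschemeι (mc G) * pullM B.subschemeι (mc (ClSub.idealMod B))) *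
            (mc V' * pullM B.subschemeι (mc L)) := by simp only [mul_assoc]
        _ = _ := by rw [h3, one_mul]
    rw [e1]
    refine CompVan.van_comps f B V' hV' L j (l + 1) fun C' hC' _ Vi hVi => ?_
    refine van_comp ih X A hA Z (CohB1.tensorPow H q) hH' f hf L hL N hN D α hα hP π A₁ hA₁ B hsN
      D' hD' (fun x h1 h2 h3 => ?_) C hC (fun x h1 h2 h3 => ?_) hCN (μ * q) (by rw [hdD, hmkG]) C' hC' Vi hVi j l
    · have := hE2 x h1 h2
      exact hav x (by simp [this]) h3
    · have := hE1 x h1 h2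
      exact hav (π x) (by
        simp only [Finset.mem_union, Finset.mem_image]
        exact Or.inl (Or.inl ⟨x, this, rfl⟩)) h3
  exact van_of_h k f hf hses (bd' _) (bd' _) (bd' _)
    (split_of_h k f hf hH' hses (bd _) (bd _) (bd _) hh) hh0 vb vc j l

theorem kolVD (hAlt : K909.AltInterface.Alt k) (hTw : K661.TwSurj.TwDesc k) (hEV : K660.KolUp.EV k) :
    ∀ n : ℕ, KV k n
  | 0 => kv_zero k
  | m + 1 => kv_succ hAlt hTw hEV (kolVD hAlt hTw hEV m)

/-- **Kollár's vanishing theorem.** -/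
theorem main (hAlt : K909.AltInterface.Alt k) (hTw : K661.TwSurj.TwDesc k) (hEV : K660.KolUp.EV k) (n : ℕ)
    (X : Scheme.{u}) [X.Over (Spec (CommRingCat.of k))] [IsIntegral X] [IsProper (X ↘ Spec (CommRingCat.of k))]
    [Smooth (X ↘ Spec (CommRingCat.of k))] (hn : topologicalKrullDim X = n) (A : X.Modules) (hA : CohB1.IsAmple A)
    (Z : Scheme.{u}) [Z.Over (Spec (CommRingCat.of k))] [IsProper (Z ↘ Spec (CommRingCat.of k))]
    (H : Z.Modules) (hH : CohB1.IsAmple H) (f : X ⟶ Z)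
    (hf : f ≫ (Z ↘ Spec (CommRingCat.of k)) = X ↘ Spec (CommRingCat.of k))
    (W : X.Modules) (hW : ExtPow.IsExtPow n (Omega.sheaf (X ↘ Spec (CommRingCat.of k))) W)
    (L : X.Modules) (hL : PicF.IsInvertible L) (N : ℕ) (hN : 1 ≤ N) {r : ℕ} (D : Fin r → X.IdealSheafData)
    (hD : LogNCD.IsNCD D (X ↘ Spec (CommRingCat.of k))) (α : Fin r → ℕ) (hα : ∀ j, α j < N)
    (hP : BlowUp.IsEffCartierIdeal (∏ j, D j ^ α j))
    (hpos : AltPos (X ↘ Spec (CommRingCat.of k)) (mk L hL ^ N * dcl _ hP))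
    (μ : ℕ) (hμ : Eff ((mk L hL ^ N * dcl _ hP) ^ μ / pull f (mk H hH.1)))
    (b c : ℕ) (hc : 0 < c) [HasInjectiveResolutions X.Modules] :
    Subsingleton (Coh.HH Z ((Coh.Rpush f b).obj (CohB1.tensorMod W L)) c) := by
  obtain ⟨c, rfl⟩ : ∃ c', c = c' + 1 := ⟨c - 1, by omega⟩
  have h1 := kolVD hAlt hTw hEV n X hn A hA Z H hH f hf W hW L hL N hN r D hD α hα hP hpos μ hμ b c
  rw [R_mc] at h1
  exact h1

end Step

end K95.KolVD
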