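import Groth.Agent.Dual.H328.ClopenGlue
import Groth.Agent.Vanish.K660.ConnComp
import Groth.Agent.Pi1.K868.ConnComp
import Groth.Agent.LoccohB.GlueHom
import Groth.Agent.Dcoh.LocLift
import Groth.Agent.EtpbcB.RDerLES
import Groth.Prelude.Def_Coh

/-!
# Decomposition of modules along finite disjoint open covers

`exists_comps`: a noetherian scheme smooth over a field is a finite disjoint union of integral open and closed
subschemes `C i`.  `exists_retract`: a module is a retract of the sum of the direct images of its restrictions to the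
`C i`.  `subsingleton_of_retract`: vanishing of `H^m(Z, R^b f_* T)` from the same for the pieces.
-/

set_option autoImplicit false
universe u
open CategoryTheory CategoryTheory.Limits AlgebraicGeometry TopologicalSpace Scheme.Modules

namespace K95.CompR

open Groth.Agent

/-- Integral components. -/
theorem exists_comps {k : Type u} [Field k] {B : Scheme.{u}} (s : B ⟶ Spec (CommRingCat.of k)) [Smooth s]
    [NoetherianSpace B] : ∃ (I : Type u) (_ : Finite I) (C : I → B.Opens), (∀ i, IsClosed (C i : Set B)) ∧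
      (∀ i, IsIntegral (C i).toScheme) ∧ iSup C = ⊤ ∧ ∀ i j, i ≠ j → Disjoint (C i) (C j) := by
  obtain ⟨I, hI, C, h1, h2, h3⟩ := K868.ConnComp.exists_finite_components B
  refine ⟨Set.range C, inferInstance, fun i => i.1, ?_, ?_, ?_, ?_⟩
  · rintro ⟨_, i, rfl⟩
    exact h1 i
  · rintro ⟨_, i, rfl⟩
    have hW : IsLocallyNoetherian (C i : Scheme.{u}) := LocallyOfFiniteType.isLocallyNoetherian ((C i).ι ≫ s)
    rw [Groth.Agent.Ega1.GenPts.isIntegral_iff]
    exact ⟨h2 i, fun x => (Groth.Agent.Sga4B.SmoothNormal.isNormalScheme_of_smooth ((C i).ι ≫ s) x).1⟩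
  · rw [eq_top_iff]
    intro x _
    obtain ⟨i, hi⟩ := h3 x
    exact Opens.mem_iSup.2 ⟨⟨C i, i, rfl⟩, hi⟩
  · rintro ⟨_, i, rfl⟩ ⟨_, j, rfl⟩ hij
    have hc : ∀ l, IsClopen (C l : Set B) := fun l => ⟨h1 l, (C l).2⟩
    have hp : ∀ l, _root_.IsPreconnected (C l : Set B) := fun l =>
      (isConnected_iff_connectedSpace.2 (h2 l)).isPreconnected
    rw [disjoint_iff_inf_le]
    rintro x ⟨hxi, hxj⟩
    refine hij (Subtype.ext (le_antisymm ?_ ?_))
    · exact (hp i).subset_isClopen (hc j) ⟨x, hxi, hxj⟩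
    · exact (hp j).subset_isClopen (hc i) ⟨x, hxj, hxi⟩

section Retract

variable {B : Scheme.{u}} {I : Type u} (C : I → B.Opens) (hC : iSup C = ⊤)
  (hd : ∀ i j, i ≠ j → Disjoint (C i) (C j))

include hC in
theorem hom_ext' {M N : B.Modules} (f g : M ⟶ N)
    (h : ∀ i, (restrictFunctor (C i).ι).map f = (restrictFunctor (C i).ι).map g) : f = g := by
  refine Groth.Agent.LoccohB.GlueHom.hom_ext_of_cover C hC f g fun i V hV s => ?_
  obtain ⟨V', rfl⟩ : ∃ V' : (C i).toScheme.Opens, (C i).ι ''ᵁ V' = V :=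
    ⟨(C i).ι ⁻¹ᵁ V, by
      rw [Scheme.Hom.image_preimage_eq_opensRange_inf, Scheme.Opens.opensRange_ι]
      exact inf_eq_right.2 hV⟩
  exact congr(($(h i)).app V' s)

include hC hd in
theorem exists_retract [Fintype I] (G : B.Modules) :
    ∃ (u : ∀ i, G ⟶ (pushforward (C i).ι).obj ((restrictFunctor (C i).ι).obj G))
      (v : ∀ i, (pushforward (C i).ι).obj ((restrictFunctor (C i).ι).obj G) ⟶ G), ∑ i, u i ≫ v i = 𝟙 G := by
  classical
  let T : I → B.Modules := fun i => (pushforward (C i).ι).obj ((restrictFunctor (C i).ι).obj G)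
  let u : ∀ i, G ⟶ T i := fun i => (restrictAdjunction (C i).ι).unit.app G
  have H : ∀ i, ∃ v : T i ⟶ G, (restrictFunctor (C i).ι).map (u i ≫ v) = 𝟙 _ ∧
      ∀ j, j ≠ i → (restrictFunctor (C j).ι).map v = 0 := by
    intro i
    obtain ⟨β, hβ⟩ := Groth.Agent.Dual.H328.ClopenGlue.exists_hom C hC hd (M := T i) (N := G)
      (Function.update (fun j => (0 : (T i).restrict (C j).ι ⟶ G.restrict (C j).ι)) i
        ((restrictAdjunction (C i).ι).counit.app ((restrictFunctor (C i).ι).obj G)))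
    refine ⟨β, ?_, fun j hj => ?_⟩
    · rw [Functor.map_comp, hβ i, Function.update_self]
      exact (restrictAdjunction (C i).ι).left_triangle_components G
    · rw [hβ j, Function.update_of_ne hj]
  choose v hv1 hv2 using H
  refine ⟨u, v, hom_ext' C hC _ _ fun j => ?_⟩
  rw [Functor.map_sum, Finset.sum_eq_single j, hv1, CategoryTheory.Functor.map_id]
  · intro i _ hij
    rw [Functor.map_comp, hv2 i j (Ne.symm hij), comp_zero]
  · intro hj
    exact absurd (Finset.mem_univ j) hj

end Retract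

section Sub

open Sheaf

theorem map_zero' {X : Scheme.{u}} {F G : Sheaf (Opens.grothendieckTopology X) AddCommGrpCat.{u}} (n : ℕ)
    (x : Sheaf.H F n) : Sheaf.H.map (0 : F ⟶ G) n x = 0 := by
  have h := Sheaf.H.map_add_apply (0 : F ⟶ G) 0 x
  rw [add_zero] at h
  exact left_eq_add.1 h

theorem map_sum' {X : Scheme.{u}} {F G : Sheaf (Opens.grothendieckTopology X) AddCommGrpCat.{u}} {ι : Type*}
    (s : Finset ι) (φ : ι → (F ⟶ G)) (n : ℕ) (x : Sheaf.H F n) :
    Sheaf.H.map (∑ i ∈ s, φ i) n x = ∑ i ∈ s, Sheaf.H.map (φ i) n x := by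
  classical
  induction s using Finset.induction_on with
  | empty => rw [Finset.sum_empty, Finset.sum_empty]; exact map_zero' n x
  | insert a s ha ih => rw [Finset.sum_insert ha, Finset.sum_insert ha, Sheaf.H.map_add_apply, ih]

theorem subsingleton_of_retract {X Z : Scheme.{u}} (f : X ⟶ Z) [HasInjectiveResolutions X.Modules] {I : Type*}
    [Fintype I] {T : X.Modules} (Ti : I → X.Modules) (u : ∀ i, T ⟶ Ti i) (v : ∀ i, Ti i ⟶ T)
    (h : ∑ i, u i ≫ v i = 𝟙 T) (b m : ℕ) (hs : ∀ i, Subsingleton (Coh.HH Z ((Coh.Rpush f b).obj (Ti i)) m)) :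
    Subsingleton (Coh.HH Z ((Coh.Rpush f b).obj T) m) := by
  let Φ : X.Modules ⥤ Sheaf (Opens.grothendieckTopology Z) AddCommGrpCat.{u} :=
    Coh.Rpush f b ⋙ SheafOfModules.toSheaf Z.ringCatSheaf
  have hΦ : Φ.Additive :=
    { map_add := fun {_ _ p q} => (congrArg (SheafOfModules.toSheaf Z.ringCatSheaf).map
        ((Coh.Rpush f b).map_add (f := p) (g := q))).trans
          ((SheafOfModules.toSheaf Z.ringCatSheaf).map_add (f := (Coh.Rpush f b).map p) (g := (Coh.Rpush f b).map q)) }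
  have key : ∀ x : Sheaf.H (Φ.obj T) m, x = 0 := by
    intro x
    have h1 : ∑ i, Φ.map (u i) ≫ Φ.map (v i) = 𝟙 (Φ.obj T) := by
      rw [← Φ.map_id, ← h, Functor.map_sum]
      exact Finset.sum_congr rfl fun i _ => (Φ.map_comp _ _).symm
    have h2 : Sheaf.H.map (𝟙 (Φ.obj T)) m x = x := Sheaf.H.map_id_apply x
    rw [← h2, ← h1, map_sum']
    refine Finset.sum_eq_zero fun i _ => ?_
    rw [Sheaf.H.map_comp_apply]
    have h3 : Sheaf.H.map (Φ.map (u i)) m x = 0 := (hs i).elim _ _
    rw [h3, map_zero]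
  exact ⟨fun x y => (key x).trans (key y).symm⟩

end Sub

end K95.CompR
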