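import Groth.Agent.Vanish.K661.MemPull
import Groth.Agent.Vanish.K27.JetBase
import Groth.Agent.Vanish.K27.Strata
import Groth.Agent.Vanish.K95.CompR
import Groth.Agent.Picfga.IdealDescent

/-!
# General sections and their pull-back to an alteration

`exists_sec₂`: `π : X₁ ⟶ X`, `X`, `X₁` smooth in characteristic zero, `D` a normal crossing divisor of `X`, `G` globally
generated on `X`: there is a section whose divisor crosses `D` normally, has a smooth pull-back to `X₁` and avoids
finitely many points.  `exists_comp`: a component of a closed subscheme `D` is dominated by a component of `π⁻¹(D)`.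
-/

set_option autoImplicit false
universe u
open CategoryTheory CategoryTheory.Limits AlgebraicGeometry TopologicalSpace

namespace K95.PairSec

open Groth.Agent K27.Bert0

section Sec

variable {k : Type u} [Field k] [IsAlgClosed k] [CharZero k] {X X₁ : Scheme.{u}} [X.Over (Spec (CommRingCat.of k))]
  [X₁.Over (Spec (CommRingCat.of k))] (π : X₁ ⟶ X)
  (hπ : π ≫ (X ↘ Spec (CommRingCat.of k)) = X₁ ↘ Spec (CommRingCat.of k))
  [Smooth (X ↘ Spec (CommRingCat.of k))] [Smooth (X₁ ↘ Spec (CommRingCat.of k))] [CompactSpace X] [CompactSpace X₁]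

include hπ in
theorem exists_sec₂ {r : ℕ} (D : Fin r → X.IdealSheafData) (hD : LogNCD.IsNCD D (X ↘ Spec (CommRingCat.of k)))
    {G : X.Modules} (hG : PicF.IsInvertible G) (hgg : Curv2.IsGloballyGenerated G) (E : Finset X) :
    ∃ s : Coh.structureModule X ⟶ G,
      LogNCD.IsNCD (snocD D (PicF2.zeroScheme G s)) (X ↘ Spec (CommRingCat.of k)) ∧
      Smooth (((PicF2.zeroScheme G s).comap π).subschemeι ≫ (X₁ ↘ Spec (CommRingCat.of k))) ∧
      ∀ x ∈ E, x ∉ (PicF2.zeroScheme G s).support := by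
  classical
  have : Infinite k := IsAlgClosed.instInfinite
  obtain ⟨r₁, s, hs⟩ := K660.KolUp.exists_sections hG hgg
  obtain ⟨p, hp, hpc⟩ := exists_poly_isNCD (k := k) (X := X) (D := D) hD hG s hs
  have hs' : ⨆ i, PicF2.zeroScheme _ (Fdesc.LocGen.pullHom π (s i)) = ⊤ := by
    have h1 : ∀ i, PicF2.zeroScheme _ (Fdesc.LocGen.pullHom π (s i)) = (PicF2.zeroScheme G (s i)).comap π := fun i =>
      (K850.RegSec.comap_zeroScheme π hG (s i)).symm
    simp only [h1]
    have h2 := (Scheme.IdealSheafData.map_gc π).l_iSup (f := fun i => PicF2.zeroScheme G (s i))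
    rw [← h2, hs]
    exact Scheme.IdealSheafData.comap_top π
  obtain ⟨p₁, hp₁, hpc₁⟩ := exists_poly_isNCD (k := k) (X := X₁) (r := 0) (D := Fin.elim0)
    (fun x hT => (hT.some.1 : Fin 0).elim0) (Fdesc.LocGen.isInvertible_pullback π hG) _ hs'
  have h1 : ∀ x : X, ∃ i, x ∉ (PicF2.zeroScheme G (s i)).support := by
    intro x
    by_contra hx
    push Not at hx
    have h2 : (⨆ i, PicF2.zeroScheme G (s i)).support = ⊥ := by
      rw [hs, Scheme.IdealSheafData.support_top]
    have h3 : x ∈ ((⨆ i, PicF2.zeroScheme G (s i)).support : Set X) := by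
      rw [Scheme.IdealSheafData.support_iSup]
      simpa using hx
    rw [h2] at h3
    exact h3
  choose i₀ hi₀ using h1
  choose q hq hqc using fun x : X => K27.JetBase.exists_poly_notMem (k := k) hG s x (i₀ x) (hi₀ x)
  have hP : p * p₁ * ∏ x ∈ E, q x ≠ 0 :=
    mul_ne_zero (mul_ne_zero hp hp₁) (Finset.prod_ne_zero_iff.2 fun x _ => hq x)
  obtain ⟨a, ha⟩ := K660.KolUp.exists_eval_ne_zero (p * p₁ * ∏ x ∈ E, q x) hP
  rw [map_mul, map_mul, map_prod] at ha
  refine ⟨member k s a, hpc a (left_ne_zero_of_mul (left_ne_zero_of_mul ha)), ?_, fun x hx => hqc x a ?_⟩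
  · have h2 := K27.Strata.smooth_component _ (hpc₁ a (right_ne_zero_of_mul (left_ne_zero_of_mul ha))) (Fin.last 0)
    rw [show snocD (Fin.elim0 : Fin 0 → X₁.IdealSheafData) (PicF2.zeroScheme _
      (member k (fun i => Fdesc.LocGen.pullHom π (s i)) a)) (Fin.last 0) =
      PicF2.zeroScheme _ (member k (fun i => Fdesc.LocGen.pullHom π (s i)) a) from Fin.snoc_last _ _,
      ← K661.MemPull.pullHom_member π hπ, ← K850.RegSec.comap_zeroScheme π hG] at h2
    exact h2
  · exact (Finset.prod_ne_zero_iff.1 (right_ne_zero_of_mul ha)) x hx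

end Sec

section Comp

variable {k : Type u} [Field k] {X X₁ : Scheme.{u}} (f : X ⟶ Spec (CommRingCat.of k)) (π : X₁ ⟶ X) [Surjective π]
  [IsProper π] (D : X.IdealSheafData) [NoetherianSpace (D.comap π).subscheme]
  [Smooth ((D.comap π).subschemeι ≫ π ≫ f)]

include f in
/-- A component of `D` is dominated by a component of `π⁻¹(D)`. -/
theorem exists_comp (C : D.subscheme.Opens) (hC : IsClosed (C : Set D.subscheme)) [IsIntegral C.toScheme] :
    ∃ (C₁ : (D.comap π).subscheme.Opens) (q : C₁.toScheme ⟶ C.toScheme),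
      IsClosed (C₁ : Set (D.comap π).subscheme) ∧ IsIntegral C₁.toScheme ∧
      q ≫ C.ι ≫ D.subschemeι = C₁.ι ≫ (D.comap π).subschemeι ≫ π ∧ Surjective q ∧ IsProper q := by
  let ρ : (D.comap π).subscheme ⟶ D.subscheme :=
    Scheme.IdealSheafData.subschemeMap (D.comap π) D π (D.le_map_comap π)
  have hρ : ρ ≫ D.subschemeι = (D.comap π).subschemeι ≫ π := Scheme.IdealSheafData.subschemeMap_subschemeι _ _ _ _
  have hsq := Picfga.IdealDescent.isPullback_comap π D
  obtain ⟨y₁, hy₁⟩ : ∃ y₁, ρ y₁ = C.ι (genericPoint C.toScheme) := by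
    have hρs : Surjective ρ := MorphismProperty.of_isPullback hsq.flip inferInstance
    exact ρ.surjective _
  obtain ⟨I, hI, Cs, hCc, hCi, hCt, hCd⟩ := CompR.exists_comps ((D.comap π).subschemeι ≫ π ≫ f)
  obtain ⟨i, hi⟩ := Opens.mem_iSup.1 (show y₁ ∈ iSup Cs by rw [hCt]; trivial)
  have hint : IsIntegral (Cs i).toScheme := hCi i
  have hclop : IsClopen (C : Set D.subscheme) := ⟨hC, C.2⟩
  have hpre : IsClopen ((ρ ⁻¹ᵁ C : (D.comap π).subscheme.Opens) : Set (D.comap π).subscheme) :=
    hclop.preimage ρ.continuous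
  have hconn : _root_.IsPreconnected (Cs i : Set (D.comap π).subscheme) := by
    have h1 : IrreducibleSpace (Cs i).toScheme := inferInstance
    have h2 : ConnectedSpace (Cs i).toScheme := inferInstance
    exact (isConnected_iff_connectedSpace.2 h2).isPreconnected
  have hmem : y₁ ∈ (ρ ⁻¹ᵁ C : (D.comap π).subscheme.Opens) := by
    change ρ y₁ ∈ C
    rw [hy₁]
    exact (genericPoint C.toScheme).2
  have hle : Cs i ≤ ρ ⁻¹ᵁ C := hconn.subset_isClopen hpre ⟨y₁, hi, hmem⟩
  have hrange : Set.range ((Cs i).ι ≫ ρ) ⊆ Set.range C.ι := by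
    rintro _ ⟨z, rfl⟩
    rw [Scheme.Opens.range_ι]
    exact hle z.2
  let q : (Cs i).toScheme ⟶ C.toScheme := IsOpenImmersion.lift C.ι ((Cs i).ι ≫ ρ) hrange
  have hq : q ≫ C.ι = (Cs i).ι ≫ ρ := IsOpenImmersion.lift_fac _ _ _
  have hcl₁ : IsClosedImmersion (Cs i).ι := K660.ConnComp.isClosedImmersion_ι (Cs i) (hCc i)
  have hcl : IsClosedImmersion C.ι := K660.ConnComp.isClosedImmersion_ι C hC
  have hfac : q ≫ C.ι ≫ D.subschemeι = (Cs i).ι ≫ (D.comap π).subschemeι ≫ π := by
    rw [reassoc_of% hq, hρ]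
  have hqp : IsProper q := by
    have h1 : IsProper (q ≫ C.ι ≫ D.subschemeι) := by rw [hfac]; infer_instance
    exact MorphismProperty.of_postcomp (W := @IsProper) (W' := @IsSeparated) q (C.ι ≫ D.subschemeι)
      inferInstance h1
  refine ⟨Cs i, q, hCc i, hint, hfac, ⟨?_⟩, hqp⟩
  have hcm : IsClosedMap q := q.isClosedMap
  have hgen : genericPoint C.toScheme ∈ Set.range q := by
    refine ⟨⟨y₁, hi⟩, ?_⟩
    apply C.ι.isOpenEmbedding.injective
    change (q ≫ C.ι) ⟨y₁, hi⟩ = _
    rw [hq]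
    exact hy₁
  intro z
  have h1 : closure ({genericPoint C.toScheme} : Set C.toScheme) ⊆ Set.range q :=
    closure_minimal (Set.singleton_subset_iff.2 hgen) (by
      rw [← Set.image_univ]
      exact hcm _ isClosed_univ)
  rw [genericPoint_closure] at h1
  exact h1 trivial

end Comp

end K95.PairSec
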