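import Groth.Agent.Vanish.K95.RpNum
import Groth.Agent.Vanish.K95.CompR
import Groth.Agent.Vanish.K95.PairSec
import Groth.Agent.Vanish.K95.GenSec
import Groth.Agent.Pic13.H11.Transf
import Groth.Agent.Sga5.AmpleFib
import Groth.Agent.CurvesC.PointScheme
import Groth.Agent.PerfC.AffPushD
import Groth.Agent.Fga.EulerLEAdd
import Groth.Agent.Surf.K461.Canon
import Groth.Agent.Fga.HodgeSec
import Groth.Agent.Vanish.K661.NcdRes
import Groth.Agent.Vanish.K660.NcdEt

/-!
# Kollár's vanishing theorem: components, dimension zero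
-/

set_option autoImplicit false
universe u
open CategoryTheory CategoryTheory.Limits AlgebraicGeometry TopologicalSpace

namespace K95.CompVan

open Groth.Agent Groth.Agent.Fga.PicMon Groth.Agent.Pic13.H11.Cls
open Groth.Agent.Pic13.H11.Transf (pushC pushC_mc co_pushC V_push)
open K911.PullM K95.RpCls K95.RpNum

section Zero

theorem subsingleton_of_dim {X : Scheme.{u}} [IsIntegral X] (hn : topologicalKrullDim X = (0 : ℕ)) :
    Subsingleton X := by
  have key : ∀ x : X, closure ({x} : Set X) = Set.univ := by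
    intro x
    by_contra hne
    have h1 : topologicalKrullDim (Set.univ : Set X) < ((0 + 1 : ℕ) : WithBot ℕ∞) := by
      rw [(Homeomorph.Set.univ X).isHomeomorph.topologicalKrullDim_eq, hn]
      decide
    have h2 := Fga.DimLt.topologicalKrullDim_lt (IrreducibleSpace.isIrreducible_univ X)
      (isClosed_closure (s := ({x} : Set X))) (Set.subset_univ _) hne h1
    have h3 : Nonempty (IrreducibleCloseds (closure ({x} : Set X))) :=
      ⟨⟨closure {⟨x, subset_closure rfl⟩}, isIrreducible_singleton.closure, isClosed_closure⟩⟩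
    exact absurd h2 (not_lt.2 (by
      rw [Nat.cast_zero]
      exact Order.krullDim_nonneg))
  exact ⟨fun x y => (inseparable_iff_closure_eq.2 ((key x).trans (key y).symm)).eq⟩

/-- Kollár's vanishing theorem in dimension zero. -/
theorem van_zero (k : Type u) [Field k] (X : Scheme.{u}) [X.Over (Spec (CommRingCat.of k))] [IsIntegral X]
    [IsProper (X ↘ Spec (CommRingCat.of k))] [Smooth (X ↘ Spec (CommRingCat.of k))]
    (hn : topologicalKrullDim X = (0 : ℕ)) (Z : Scheme.{u}) [Z.Over (Spec (CommRingCat.of k))] [Z.IsSeparated]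
    [IsProper (Z ↘ Spec (CommRingCat.of k))] (f : X ⟶ Z)
    (hf : f ≫ (Z ↘ Spec (CommRingCat.of k)) = X ↘ Spec (CommRingCat.of k)) {F : X.Modules}
    (hF : PicF.IsInvertible F) (j m : ℕ) : V (m + 1) (R f j (mc F)) := by
  have hs := subsingleton_of_dim hn
  have haff : IsAffine X := CurvesC.PointScheme.isAffine_of_subsingleton
  have hfa : IsAffineHom f := MorphismProperty.of_postcomp (W := @IsAffineHom) (W' := @IsSeparated) f
    (Z ↘ Spec (CommRingCat.of k)) inferInstance (by rw [hf]; infer_instance)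
  have hc : Coh.IsCoh F := Fga.HodgeSec.isCoh_of_isInvertible hF
  have hc' : Co (mc F) := hc
  have hLN : IsLocallyNoetherian X := LocallyOfFiniteType.isLocallyNoetherian (X ↘ Spec (CommRingCat.of k))
  have hN : IsNoetherian X := {}
  cases j with
  | succ j => exact V_of_Zr (c := R f (j + 1) (mc F)) (PerfC.AffPushD.isZero_Rpush f _ hc.1 (j + 1) (Nat.succ_pos j)) _
  | zero =>
    have h1 : R f 0 (mc F) = pushC f (mc F) := mc_eq ((Scheme.Modules.pushforward f).rightDerivedZeroIsoSelf.app _)
    rw [h1, V_push f k hf hc']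
    exact Fga.EulerLEAdd.subsingleton_HH X 0 hn.le _ (m + 1) (Nat.succ_pos m)

end Zero

section Comp

variable {k : Type u} [Field k] [IsAlgClosed k] {m : ℕ} {X : Scheme.{u}} [X.Over (Spec (CommRingCat.of k))]
  [IsProper (X ↘ Spec (CommRingCat.of k))] [CompactSpace X] {Z : Scheme.{u}} (f : X ⟶ Z)

/-- The vanishing for a smooth closed subscheme from its components. -/
theorem van_comps (D : X.IdealSheafData)
    [SmoothOfRelativeDimension m (D.subschemeι ≫ (X ↘ Spec (CommRingCat.of k)))] (V' : D.subscheme.Modules)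
    (hV : ExtPow.IsExtPow m (Omega.sheaf (D.subschemeι ≫ (X ↘ Spec (CommRingCat.of k)))) V') (L : X.Modules) (j l : ℕ)
    (hvan : ∀ (C : D.subscheme.Opens), IsClosed (C : Set D.subscheme) → IsIntegral C.toScheme →
      ∀ (Vi : C.toScheme.Modules),
      ExtPow.IsExtPow m (Omega.sheaf ((C.ι ≫ D.subschemeι) ≫ (X ↘ Spec (CommRingCat.of k)))) Vi →
      V l (R ((C.ι ≫ D.subschemeι) ≫ f) j
        (mc (CohB1.tensorMod Vi ((Scheme.Modules.pullback (C.ι ≫ D.subschemeι)).obj L))))) :
    V l (R f j (pushC D.subschemeι (mc V' * pullM D.subschemeι (mc L)))) := by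
  have hsm : Smooth (D.subschemeι ≫ (X ↘ Spec (CommRingCat.of k))) := SmoothOfRelativeDimension.smooth m _
  have hLND : IsLocallyNoetherian D.subscheme :=
    LocallyOfFiniteType.isLocallyNoetherian (D.subschemeι ≫ (X ↘ Spec (CommRingCat.of k)))
  have hDc : CompactSpace D.subscheme := QuasiCompact.compactSpace_of_compactSpace D.subschemeι
  have hND : IsNoetherian D.subscheme := {}
  obtain ⟨I, hI, C, hCc, hCi, hCt, hCd⟩ := CompR.exists_comps (D.subschemeι ≫ (X ↘ Spec (CommRingCat.of k)))
  have hIf : Fintype I := Fintype.ofFinite I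
  obtain ⟨w, v, hwv⟩ := CompR.exists_retract C hCt hCd
    (CohB1.tensorMod V' ((Scheme.Modules.pullback D.subschemeι).obj L))
  have e0 : pushC D.subschemeι (mc V' * pullM D.subschemeι (mc L)) =
      mc ((Scheme.Modules.pushforward D.subschemeι).obj
        (CohB1.tensorMod V' ((Scheme.Modules.pullback D.subschemeι).obj L))) := by
    rw [pullM_mc, ← mc_tensor, pushC_mc]
  rw [e0, R_mc]
  change Subsingleton (Coh.HH Z _ l)
  refine CompR.subsingleton_of_retract f
    (fun i => (Scheme.Modules.pushforward D.subschemeι).obj ((Scheme.Modules.pushforward (C i).ι).obj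
      ((Scheme.Modules.restrictFunctor (C i).ι).obj
        (CohB1.tensorMod V' ((Scheme.Modules.pullback D.subschemeι).obj L)))))
    (fun i => (Scheme.Modules.pushforward D.subschemeι).map (w i))
    (fun i => (Scheme.Modules.pushforward D.subschemeι).map (v i)) ?_ j l fun i => ?_
  · rw [← CategoryTheory.Functor.map_id, ← hwv, Functor.map_sum]
    exact Finset.sum_congr rfl fun i _ => (Functor.map_comp _ _ _).symm
  · have hci := hCc i
    have hint : IsIntegral (C i).toScheme := hCi i
    have hcl : IsClosedImmersion (C i).ι := K660.ConnComp.isClosedImmersion_ι (C i) hci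
    have hover : ((C i).ι ≫ D.subschemeι) ≫ (X ↘ Spec (CommRingCat.of k)) =
      (C i).ι ≫ (D.subschemeι ≫ (X ↘ Spec (CommRingCat.of k))) := Category.assoc _ _ _
    let g : (C i).toScheme ⟶ X := (C i).ι ≫ D.subschemeι
    obtain ⟨Vi, hVi⟩ := Dual.H366.ExtQCoh.exists_isExtPow m
      (Dual.H328.ClopenGlue.isQCoh_omega ((C i).ι ≫ (D.subschemeι ≫ (X ↘ Spec (CommRingCat.of k)))))
    obtain ⟨eV⟩ := Dual.H328.ClopenGlue.nonempty_ext_restrict (D.subschemeι ≫ (X ↘ Spec (CommRingCat.of k))) (C i)
      hV hVi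
    have hVi' : ExtPow.IsExtPow m (Omega.sheaf (g ≫ (X ↘ Spec (CommRingCat.of k)))) Vi := by
      rw [hover]; exact hVi
    have h1 := hvan (C i) hci hint Vi hVi'
    -- comparison
    let Ni := (Scheme.Modules.restrictFunctor (C i).ι).obj
        (CohB1.tensorMod V' ((Scheme.Modules.pullback D.subschemeι).obj L))
    have e1 : mc Ni = mc (CohB1.tensorMod Vi ((Scheme.Modules.pullback g).obj L)) := by
      have e2 : mc Ni = pullM (C i).ι (mc (CohB1.tensorMod V' ((Scheme.Modules.pullback D.subschemeι).obj L))) :=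
        mc_eq ((Scheme.Modules.restrictFunctorIsoPullback (C i).ι).app _)
      have e3 : pullM (C i).ι (mc V') = mc Vi :=
        mc_eq (((Scheme.Modules.restrictFunctorIsoPullback (C i).ι).app V').symm ≪≫ eV)
      rw [e2, mc_tensor, map_mul, e3, mc_tensor, ← pullM_mc D.subschemeι, ← pullM_comp, ← pullM_mc g]
    obtain ⟨e4⟩ := FormalA.RpushFlasque.nonempty_rpush_comp_iso g f j Ni
    have e5 : (Coh.Rpush f j).obj ((Scheme.Modules.pushforward D.subschemeι).obj
        ((Scheme.Modules.pushforward (C i).ι).obj Ni)) ≅ (Coh.Rpush (g ≫ f) j).obj Ni :=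
      (Coh.Rpush f j).mapIso ((Scheme.Modules.pushforwardComp (C i).ι D.subschemeι).app Ni) ≪≫ e4
    have h2 : V l (mc ((Coh.Rpush (g ≫ f) j).obj Ni)) := by
      rw [← R_mc, e1]; exact h1
    rw [← mc_eq e5] at h2
    exact h2

end Comp

end K95.CompVan
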