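import Groth.Agent.Surf.K456.LerayC

/-!
# The Leray spectral sequence when `H^{≥ 2}(X, R^j f_* G) = 0`, numerically

`h^{n+1}(Y, G) = h⁰(X, R^{n+1} f_* G) + h¹(X, R^n f_* G)`.
-/

set_option autoImplicit false
universe u v w

open CategoryTheory Limits AlgebraicGeometry Opposite TopologicalSpace Module

namespace K95.LerayTwo

open Groth.Agent Groth.Agent.VarietyA Groth.Agent.VarietyA.AbsEuler
  Groth.Agent.VarietyA.LerayEuler K456.LerayC

section Abs

variable {k : Type w} [Field k] {A : Type u} [Category.{v} A] [Abelian A] (D : DeltaFun k A)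
variable (K : CochainComplex A ℕ)
  (hK : ∀ j n, Subsingleton ((D.H (n + 1)).obj (K.X j)))
  (hF : ∀ j n, FiniteDimensional k ((D.H n).obj (K.homology j)))
  (hV : ∀ j n, Subsingleton ((D.H (n + 2)).obj (K.homology j)))

include hK hV in
theorem van_cycles (j : ℕ) : ∀ n, Subsingleton ((D.H (n + 2)).obj (K.cycles j)) := by
  induction j with
  | zero =>
    intro n
    have e : IsIso (K.homologyπ 0) := K.isIso_homologyπ₀
    have := hV 0 n
    exact (((D.H (n + 2)).mapIso (asIso (K.homologyπ 0))).toLinearEquiv).toEquiv.subsingleton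
  | succ j ih =>
    intro n
    have hB : Subsingleton ((D.H (n + 2)).obj (seqZ K j).X₃) := by
      have := ih (n + 1)
      exact (D.deltaEquiv (seqZ_shortExact K j) (hK j) (n + 1)).toEquiv.subsingleton
    have hB' : Subsingleton ((D.H (n + 2)).obj (seqB K j).X₁) := hB
    have hH : Subsingleton ((D.H (n + 2)).obj (seqB K j).X₃) := hV (j + 1) n
    have ex := D.exact₂ (seqB K j) (seqB_shortExact K j) (n + 2)
    change Subsingleton ((D.H (n + 2)).obj (seqB K j).X₂)
    refine subsingleton_of_forall_eq 0 fun x => ?_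
    obtain ⟨y, rfl⟩ := (ex x).mp (Subsingleton.elim _ _)
    rw [Subsingleton.elim y 0, map_zero]

include hK hF hV in
theorem hyp_succ_of_two (n : ℕ) :
    D.hyp K (n + 1) = D.h (K.homology (n + 1)) 0 + D.h (K.homology n) 1 := by
  have hV' : ∀ j m, 2 ≤ m → Subsingleton ((D.H m).obj (K.homology j)) := fun j m hm => by
    obtain ⟨m, rfl⟩ : ∃ r, m = r + 2 := ⟨m - 2, by omega⟩
    exact hV _ m
  rw [D.hyp_succ_eq K (M := 2) (by omega) hK hF hV' n]
  have ha : ∀ j, D.a 2 (K.cycles j) = D.h (K.cycles j) 1 := by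
    intro j
    rw [DeltaFun.a, Finset.sum_range_succ, Finset.sum_range_one]
    have : D.h (K.cycles j) (1 + 1) = 0 := D.h_eq_zero (van_cycles D K hK hV j 0)
    rw [this]
    ring
  have hchi : ∀ F : A, D.chi 2 F = D.h F 0 - D.h F 1 := by
    intro F
    rw [DeltaFun.chi, Finset.sum_range_succ, Finset.sum_range_one]
    ring
  have hcyc : ∀ j, D.h (K.cycles j) 1 = D.h (K.homology j) 1 := by
    intro j
    cases j with
    | zero =>
      have e : IsIso (K.homologyπ 0) := K.isIso_homologyπ₀
      exact h_congr D (asIso (K.homologyπ 0)) 1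
    | succ j =>
      have hB : Subsingleton ((D.H 1).obj (seqZ K j).X₃) := by
        have := van_cycles D K hK hV j 0
        exact (D.deltaEquiv (seqZ_shortExact K j) (hK j) 0).toEquiv.subsingleton
      have hB2 : Subsingleton ((D.H 2).obj (seqB K j).X₁) := by
        have := van_cycles D K hK hV j 1
        exact (D.deltaEquiv (seqZ_shortExact K j) (hK j) 1).toEquiv.subsingleton
      have e2 := D.exact₂ (seqB K j) (seqB_shortExact K j) 1
      have e3 := D.exact₃ (seqB K j) (seqB_shortExact K j) 1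
      have hinj : Function.Injective ((D.H 1).map (seqB K j).g).hom := by
        rw [injective_iff_map_eq_zero]
        intro x hx
        obtain ⟨y, hy⟩ := (e2 x).1 hx
        have : y = 0 := @Subsingleton.elim _ hB _ _
        rw [← hy, this, map_zero]
      have hsurj : Function.Surjective ((D.H 1).map (seqB K j).g).hom := by
        intro y
        exact (e3 y).1 (@Subsingleton.elim _ hB2 _ _)
      rw [DeltaFun.h, DeltaFun.h]
      exact_mod_cast (LinearEquiv.ofBijective _ ⟨hinj, hsurj⟩).finrank_eq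
  rw [hchi, ha, ha, hcyc, hcyc]
  ring

end Abs

section Sch

variable {X Y : Scheme.{u}} (f : Y ⟶ X) (k : Type u) [Field k] [X.Over (Spec (CommRingCat.of k))]
  [Y.Over (Spec (CommRingCat.of k))]

/-- `h^{n+1}(Y, G) = h⁰(X, R^{n+1} f_* G) + h¹(X, R^n f_* G)` if `H^{≥ 2}(X, R^j f_* G) = 0` for all `j`. -/
theorem finrank_HH_succ (hf : f ≫ (X ↘ (Spec (CommRingCat.of k))) = Y ↘ (Spec (CommRingCat.of k)))
    [HasInjectiveResolutions Y.Modules] (G : Y.Modules) (M : ℕ)
    (hX : ∀ j n, Subsingleton (Coh.HH X ((Coh.Rpush f j).obj G) (n + 2)))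
    (hG : ∀ n, FiniteDimensional k (Coh.HH Y G n)) (hG' : ∀ n, M ≤ n → Subsingleton (Coh.HH Y G n))
    (hR : ∀ i n, FiniteDimensional k (Coh.HH X ((Coh.Rpush f i).obj G) n)) (n : ℕ) :
    finrank k (Coh.HH Y G (n + 1)) = finrank k (Coh.HH X ((Coh.Rpush f (n + 1)).obj G) 0) +
      finrank k (Coh.HH X ((Coh.Rpush f n).obj G) 1) := by
  obtain ⟨I⟩ := (HasInjectiveResolutions.out G).out
  have hfl : ∀ j, TopCat.Sheaf.IsFlasque (X := Y.toTopCat) (Coh.toAb (I.cocomplex.X j)) :=
    fun j => Ega3B.InjMod.isFlasque_of_injective (I.cocomplex.X j)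
  let e : ∀ i, (pushCx f I.cocomplex).homology i ≅ (Coh.Rpush f i).obj G :=
    fun i => (I.isoRightDerivedObj (Scheme.Modules.pushforward f) i).symm
  have h1 := hyp_succ_of_two (HHDelta.deltaFun k X) (pushCx f I.cocomplex)
    (fun j n => subsingleton_HH_of_isFlasque _ (isFlasque_pushforward f _ (hfl j)) n)
    (fun j n => finite_of_iso k X (e j).symm n (hR j n))
    (fun j n => subsingleton_of_iso X (e j).symm (n + 2) (hX j n)) n
  have h2 := hyp_resolution (HHDelta.deltaFun k Y) I.cocomplex (M := M + 1)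
    (fun j n => subsingleton_HH_of_isFlasque _ (hfl j) n)
    (fun j n => by
      cases j with
      | zero => exact finite_of_iso k Y (homologyZeroIso I).symm n (hG n)
      | succ j =>
        have := subsingleton_of_isZero Y (isZero_homology_succ I j) n
        exact (inferInstance : FiniteDimensional k (Coh.HH Y (I.cocomplex.homology (j + 1)) n)))
    (fun j n hn => by
      cases j with
      | zero => exact subsingleton_of_iso Y (homologyZeroIso I).symm n (hG' n (by omega))
      | succ j => exact subsingleton_of_isZero Y (isZero_homology_succ I j) n) (by omega)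
    (isZero_homology_succ I) (fun F hF n => subsingleton_of_isZero Y hF n) n
  rw [hyp_push f k hf, h2, h_congr _ (homologyZeroIso I), h_congr _ (e (n + 1)),
    h_congr _ (e n)] at h1
  have h3 : ((finrank k (Coh.HH Y G (n + 1)) : ℕ) : ℤ) =
      (finrank k (Coh.HH X ((Coh.Rpush f (n + 1)).obj G) 0) : ℤ) +
      (finrank k (Coh.HH X ((Coh.Rpush f n).obj G) 1) : ℤ) := h1
  exact_mod_cast h3

end Sch

end K95.LerayTwo
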