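import Groth.Agent.Vanish.K911.PullM
import Groth.Agent.Surf.K461.LerayAmp
import Groth.Agent.Surf.K456.LerayC
import Groth.Agent.Etrest.RDer1
import Groth.Agent.FormalA.RpushFlasque
import Groth.Agent.AbVar.K526.Leray

/-!
# Higher direct images on isomorphism classes of coherent modules

For `f : X ⟶ Z`: `R f b : MC X → MC Z` is the class of `R^b f_*`; projection formula `R_smul`, long exact sequence `les`,
numerical Leray `h_succ`, `h_zero` (when `H^{≥ 2}(Z, R^j) = 0`), closed immersions, Serre's theorems `serre`,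
`zr_of_h_zero` and the criterion `mono_of_h`: additivity of `h^b` after large twists forces the long exact sequence of
direct images to split into short exact sequences.
-/

set_option autoImplicit false
universe u v
open CategoryTheory CategoryTheory.Limits AlgebraicGeometry

namespace K95.RpCls

open Groth.Agent Groth.Agent.Fga.PicMon Groth.Agent.Pic13.H11.Cls K911.PullM

/-! ### Splitting a long exact sequence -/

section Abs

variable {A : Type u} [Category.{v} A] [Abelian A]

theorem split_one {M N : A} (φ : M ⟶ N) :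
    (ShortComplex.mk (kernel.ι φ) (Abelian.factorThruImage φ) (by
      rw [← cancel_mono (Abelian.image.ι φ), Category.assoc, Abelian.image.fac, kernel.condition,
        zero_comp])).ShortExact :=
  { exact := by
      refine ShortComplex.exact_of_f_is_kernel _ (KernelFork.IsLimit.ofι _ _ (fun g hg => kernel.lift φ g (by
        rw [← Abelian.image.fac φ, reassoc_of% hg, zero_comp])) (fun g hg => kernel.lift_ι _ _ _)
        (fun g hg m hm => ?_))
      rw [← cancel_mono (kernel.ι φ), hm, kernel.lift_ι]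
    mono_f := inferInstanceAs (Mono (kernel.ι φ))
    epi_g := inferInstanceAs (Epi (Abelian.factorThruImage φ)) }

theorem split_two {M N : A} (φ : M ⟶ N) :
    (ShortComplex.mk (Abelian.image.ι φ) (cokernel.π φ) (kernel.condition _)).ShortExact :=
  { exact := ShortComplex.exact_of_f_is_kernel _ (kernelIsKernel _)
    mono_f := inferInstanceAs (Mono (kernel.ι _))
    epi_g := inferInstanceAs (Epi (cokernel.π _)) }

theorem split_three {M N P M' N' : A} {φ : M ⟶ N} {ψ : N ⟶ P} {δ : P ⟶ M'} {χ : M' ⟶ N'} (w1 : φ ≫ ψ = 0)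
    (w2 : ψ ≫ δ = 0) (w3 : δ ≫ χ = 0) (e1 : (ShortComplex.mk _ _ w1).Exact) (e2 : (ShortComplex.mk _ _ w2).Exact)
    (e3 : (ShortComplex.mk _ _ w3).Exact) :
    (ShortComplex.mk (cokernel.desc φ ψ w1) (kernel.lift χ δ w3) (by
      rw [← cancel_mono (kernel.ι χ), ← cancel_epi (cokernel.π φ)]
      simp [w2])).ShortExact := by
  have hm : Mono (cokernel.desc φ ψ w1) := e1.mono_cokernelDesc
  have he : Epi (kernel.lift χ δ w3) := e3.epi_kernelLift
  refine { exact := ?_, mono_f := hm, epi_g := he }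
  let Φ : ShortComplex.mk ψ δ w2 ⟶ ShortComplex.mk (cokernel.desc φ ψ w1) δ (by
      rw [← cancel_epi (cokernel.π φ)]; simp [w2]) :=
    { τ₁ := cokernel.π φ
      τ₂ := 𝟙 _
      τ₃ := 𝟙 _
      comm₁₂ := by simp
      comm₂₃ := by simp }
  have h1 : Epi Φ.τ₁ := inferInstanceAs (Epi (cokernel.π φ))
  have h2 : IsIso Φ.τ₂ := inferInstanceAs (IsIso (𝟙 _))
  have h3 : Mono Φ.τ₃ := inferInstanceAs (Mono (𝟙 _))
  have e2' := (ShortComplex.exact_iff_of_epi_of_isIso_of_mono Φ).mp e2
  let Ψ : ShortComplex.mk (cokernel.desc φ ψ w1) (kernel.lift χ δ w3) (by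
      rw [← cancel_mono (kernel.ι χ), ← cancel_epi (cokernel.π φ)]
      simp [w2]) ⟶ ShortComplex.mk (cokernel.desc φ ψ w1) δ (by
      rw [← cancel_epi (cokernel.π φ)]; simp [w2]) :=
    { τ₁ := 𝟙 _
      τ₂ := 𝟙 _
      τ₃ := kernel.ι χ
      comm₁₂ := by simp
      comm₂₃ := by simp }
  have h1' : Epi Ψ.τ₁ := inferInstanceAs (Epi (𝟙 _))
  have h2' : IsIso Ψ.τ₂ := inferInstanceAs (IsIso (𝟙 _))
  have h3' : Mono Ψ.τ₃ := inferInstanceAs (Mono (kernel.ι χ))
  exact (ShortComplex.exact_iff_of_epi_of_isIso_of_mono Ψ).mpr e2'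

end Abs

/-! ### The zero class -/

/-- The class of a zero module. -/
def Zr {X : Scheme.{u}} : MC X → Prop :=
  Quot.lift (fun L => IsZero L) fun _ _ ⟨e⟩ => propext ⟨fun h => h.of_iso e.symm, fun h => h.of_iso e⟩

theorem Zr_mc {X : Scheme.{u}} (L : X.Modules) : Zr (mc L) = IsZero L := rfl

theorem V_of_Zr {X : Scheme.{u}} {c : MC X} (h : Zr c) (i : ℕ) : V i c := by
  induction c using MC.ind with | h L => ?_
  exact K461.LerayAmp.subsingleton_HH_of_isZero h i

theorem Zr.smul {X : Scheme.{u}} {c : MC X} (h : Zr c) (w : (MC X)ˣ) : Zr (w • c) := by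
  obtain ⟨L, hL, hw⟩ := exists_invertible w
  induction c using MC.ind with | h F => ?_
  rw [smul_def, ← hw, ← mc_tensor, Zr_mc]
  exact Functor.map_isZero (DCoh.tensorBi.obj L) h

section Ses

variable {X : Scheme.{u}} {a b c : MC X}

theorem Ses_of_shortExact [IsLocallyNoetherian X] {S : ShortComplex X.Modules} (hS : S.ShortExact)
    (h1 : Coh.IsCoh S.X₁) (h2 : Coh.IsCoh S.X₂) (h3 : Coh.IsCoh S.X₃) : Ses (mc S.X₁) (mc S.X₂) (mc S.X₃) :=
  Ses.mk S hS h1 h2 h3

/-- If the kernel is zero then the cokernel is isomorphic to the middle term. -/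
theorem eq_of_Zr_left (hs : Ses a b c) (h : Zr a) : b = c := by
  obtain ⟨S, hS, -, -, -, rfl, rfl, rfl⟩ := hs
  have h1 : IsZero S.X₁ := h
  have : Epi S.g := hS.epi_g
  have : Mono S.g := by
    have := (hS.exact.mono_g_iff).2 (h1.eq_of_src _ _)
    exact this
  have : IsIso S.g := isIso_of_mono_of_epi _
  exact mc_eq (asIso S.g)

theorem eq_of_Zr_right (hs : Ses a b c) (h : Zr c) : a = b := by
  obtain ⟨S, hS, -, -, -, rfl, rfl, rfl⟩ := hs
  have h1 : IsZero S.X₃ := h
  have : Mono S.f := hS.mono_f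
  have : Epi S.f := by
    have := (hS.exact.epi_f_iff).2 (h1.eq_of_tgt _ _)
    exact this
  have : IsIso S.f := isIso_of_mono_of_epi _
  exact mc_eq (asIso S.f)

end Ses

/-! ### Direct images -/

section Dir

variable {X Z : Scheme.{u}} (f : X ⟶ Z)

/-- The class of the `b`-th direct image. -/
noncomputable def R (b : ℕ) : MC X → MC Z :=
  Quot.lift (fun L => mc ((Coh.Rpush f b).obj L)) fun _ _ ⟨e⟩ => mc_eq ((Coh.Rpush f b).mapIso e)

theorem R_mc (b : ℕ) (L : X.Modules) : R f b (mc L) = mc ((Coh.Rpush f b).obj L) := rfl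

/-- Projection formula. -/
theorem R_smul (b : ℕ) (w : (MC Z)ˣ) (c : MC X) : R f b (pullU f w • c) = w • R f b c := by
  obtain ⟨E, hE, hw⟩ := exists_invertible w
  induction c using MC.ind with | h L => ?_
  rw [smul_def, ← pullU_val_mc f hw, ← mc_tensor, R_mc, R_mc, smul_def, ← hw, ← mc_tensor]
  obtain ⟨e⟩ := S0927.result f L E (K461.LerayAmp.isFinLocFree_of_isInvertible hE) b
  exact mc_eq e.symm

theorem Co_R [IsProper f] [IsLocallyNoetherian Z] (b : ℕ) {c : MC X} (hc : Co c) : Co (R f b c) := by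
  induction c using MC.ind with | h L => ?_
  exact S0036.result f L hc b

/-- The long exact sequence of direct images. -/
theorem les [IsProper f] [IsLocallyNoetherian Z] {a b c : MC X} (hs : Ses a b c) :
    ∃ K I Q : ℕ → MC Z, Zr (K 0) ∧ (∀ j, Ses (K j) (R f j a) (I j)) ∧ (∀ j, Ses (I j) (R f j b) (Q j)) ∧
      ∀ j, Ses (Q j) (R f j c) (K (j + 1)) := by
  obtain ⟨S, hS, c1, c2, c3, rfl, rfl, rfl⟩ := hs
  have hX : IsLocallyNoetherian X := LocallyOfFiniteType.isLocallyNoetherian f
  let φ : ∀ j, (Coh.Rpush f j).obj S.X₁ ⟶ (Coh.Rpush f j).obj S.X₂ := fun j => (Coh.Rpush f j).map S.f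
  have d1 : ∀ j, Coh.IsCoh ((Coh.Rpush f j).obj S.X₁) := S0036.result f _ c1
  have d2 : ∀ j, Coh.IsCoh ((Coh.Rpush f j).obj S.X₂) := S0036.result f _ c2
  have d3 : ∀ j, Coh.IsCoh ((Coh.Rpush f j).obj S.X₃) := S0036.result f _ c3
  have dK : ∀ j, Coh.IsCoh (kernel (φ j)) := fun j => Sga67.CohBasic.isCoh_kernel _ (d1 j) (d2 j).1
  have dQ : ∀ j, Coh.IsCoh (cokernel (φ j)) := fun j => Sga67.CohBasic.isCoh_cokernel _ (d1 j).1 (d2 j)
  have dI : ∀ j, Coh.IsCoh (Abelian.image (φ j)) := fun j =>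
    Sga67.CohBasic.isCoh_kernel _ (d2 j) (dQ j).1
  refine ⟨fun j => mc (kernel (φ j)), fun j => mc (Abelian.image (φ j)), fun j => mc (cokernel (φ j)), ?_,
    fun j => Ses.mk _ (split_one (φ j)) (dK j) (d1 j) (dI j),
    fun j => Ses.mk _ (split_two (φ j)) (dI j) (d2 j) (dQ j), fun j => ?_⟩
  · have hm : Mono S.f := hS.mono_f
    have h1 : Mono ((Scheme.Modules.pushforward f).map S.f) := inferInstance
    have h2 : Mono (φ 0) := by
      have e := (Scheme.Modules.pushforward f).rightDerivedZeroIsoSelf.hom.naturality S.f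
      have h3 : Mono ((Coh.Rpush f 0).map S.f ≫ (Scheme.Modules.pushforward f).rightDerivedZeroIsoSelf.hom.app S.X₂) := by
        rw [show (Coh.Rpush f 0).map S.f ≫ (Scheme.Modules.pushforward f).rightDerivedZeroIsoSelf.hom.app S.X₂ = _ from e]
        exact mono_comp _ _
      exact mono_of_mono _ ((Scheme.Modules.pushforward f).rightDerivedZeroIsoSelf.hom.app S.X₂)
    rw [Zr_mc]
    exact isZero_kernel_of_mono (φ 0)
  · have := split_three (Etrest.RDer1.map_comp_map (Scheme.Modules.pushforward f) j)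
      (Etrest.RDer1.comp_δ (Scheme.Modules.pushforward f) hS j)
      (Etrest.RDer1.δ_comp (Scheme.Modules.pushforward f) hS j)
      (Etrest.RDer1.exact₂ (Scheme.Modules.pushforward f) hS j)
      (Etrest.RDer1.exact₃ (Scheme.Modules.pushforward f) hS j)
      (Etrest.RDer1.exact₁ (Scheme.Modules.pushforward f) hS j)
    exact Ses.mk _ this (dQ j) (d3 j) (dK (j + 1))

end Dir

end K95.RpCls
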