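import Groth.Agent.Vanish.K95.RpCls
import Groth.Agent.Vanish.K95.LerayTwo
import Groth.Agent.Ega3B.SerreTwist

/-!
# Numerical vanishing for higher direct images

`f : X ⟶ Z`, `0 → a → b → c → 0` coherent classes on `X` with `h^j(b) = h^j(a) + h^j(c)` for all `j`, also after twist by
the pull-back of large powers of an ample module of `Z`.  Then `0 → R^j a → R^j b → R^j c → 0` is exact for all `j`
(`split_of_h`), and if `R^j b`, `R^j c` have no higher cohomology, then the same is true for the `R^j a` (`van_of_h`).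
-/

set_option autoImplicit false
universe u
open CategoryTheory CategoryTheory.Limits AlgebraicGeometry

namespace K95.RpNum

open Groth.Agent Groth.Agent.Fga.PicMon Groth.Agent.Pic13.H11.Cls K911.PullM K95.RpCls

section One

variable {X : Scheme.{u}} (k : Type u) [Field k] [X.Over (Spec (CommRingCat.of k))]
  [IsProper (X ↘ Spec (CommRingCat.of k))]

include k in
theorem isLocallyNoetherian : IsLocallyNoetherian X :=
  LocallyOfFiniteType.isLocallyNoetherian (X ↘ Spec (CommRingCat.of k))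

variable {H : X.Modules} (hH : CohB1.IsAmple H) {c : MC X} (hc : Co c)

include k hH hc in
/-- Serre vanishing. -/
theorem serre : ∃ l₀ : ℕ, ∀ l, l₀ ≤ l → ∀ i, 0 < i → V i ((unit hH.1) ^ l • c) := by
  induction c using MC.ind with | h F => ?_
  obtain ⟨n₀, h⟩ := Ega3B.SerreTwist.exists_serre (X ↘ Spec (CommRingCat.of k)) hH hc
  refine ⟨n₀, fun l hl i hi => ?_⟩
  have h1 := (h l hl).1 i hi
  rw [smul_def, Units.val_pow_eq_pow_val, unit_val, ← mc_tensorPow, mul_comm, ← mc_tensor]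
  exact h1

include hH hc in
theorem zr_of_h_zero (h0 : ∃ l₀ : ℕ, ∀ l, l₀ ≤ l → h k 0 ((unit hH.1) ^ l • c) = 0) : Zr c := by
  induction c using MC.ind with | h F => ?_
  by_contra hF
  obtain ⟨n₀, h1⟩ := Ega3B.SerreTwist.exists_serre_nontrivial (X ↘ Spec (CommRingCat.of k)) hH hc hF
  obtain ⟨n₁, h2⟩ := h0
  have h3 := (h1 (max n₀ n₁) (le_max_left _ _)).2.2.1
  have h4 := h2 (max n₀ n₁) (le_max_right _ _)
  rw [smul_def, Units.val_pow_eq_pow_val, unit_val, ← mc_tensorPow, mul_comm, ← mc_tensor, h_mc] at h4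
  have hco : Coh.IsCoh (CohB1.tensorMod F (CohB1.tensorPow H (max n₀ n₁))) := by
    have h5 := (Co.smul (c := mc F) hc ((unit hH.1) ^ (max n₀ n₁)))
    rw [smul_def, Units.val_pow_eq_pow_val, unit_val, ← mc_tensorPow, mul_comm, ← mc_tensor] at h5
    exact h5
  have hfin := Fga.HodgeSec.finite_HH' k hco 0
  exact not_subsingleton _ (Module.finrank_zero_iff.1 h4)

include hc in
theorem V_of_h {i : ℕ} (h0 : h k i c = 0) : V i c := by
  induction c using MC.ind with | h L => ?_
  have := Fga.HodgeSec.finite_HH' k hc i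
  exact Module.finrank_zero_iff.1 h0

end One

section Ses

variable {X : Scheme.{u}} (k : Type u) [Field k] [X.Over (Spec (CommRingCat.of k))]
  [IsProper (X ↘ Spec (CommRingCat.of k))] {a b c : MC X}

/-- Ranks of the maps of the long exact sequence. -/
theorem ranks (hs : Ses a b c) : ∃ F G D : ℕ → ℕ, h k 0 a = F 0 ∧ (∀ i, h k (i + 1) a = D i + F (i + 1)) ∧
    (∀ i, h k i b = F i + G i) ∧ ∀ i, h k i c = G i + D i := by
  obtain ⟨S, hS, c1, c2, c3, rfl, rfl, rfl⟩ := hs
  have f1 := Fga.HodgeSec.finite_HH' k c1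
  have f2 := Fga.HodgeSec.finite_HH' k c2
  have f3 := Fga.HodgeSec.finite_HH' k c3
  exact ⟨fun i => Module.finrank k (LinearMap.range (VarietyA.EulerLES.mapA k S.f i)),
    fun i => Module.finrank k (LinearMap.range (VarietyA.EulerLES.mapA k S.g i)),
    fun i => Module.finrank k (LinearMap.range (VarietyA.EulerLES.deltaA k S hS i (i + 1) rfl)),
    VarietyA.EulerAdd.finrank_eq₀ k S hS, fun i => VarietyA.EulerAdd.finrank_eq₁ k S hS i,
    fun i => VarietyA.EulerAdd.finrank_eq k S hS i, fun i => VarietyA.EulerAdd.finrank_eq₃ k S hS i⟩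

theorem h_zero_add_one (hs : Ses a b c) (h1 : V 1 b) : h k 0 b + h k 1 a = h k 0 a + h k 0 c := by
  obtain ⟨F, G, D, e0, e1, e2, e3⟩ := ranks k hs
  have h2 := h_eq_zero k h1
  rw [e2 1] at h2
  have h3 := e1 0
  rw [zero_add] at h3
  rw [e2 0, h3, e0, e3 0]
  omega

theorem h_zero_add (hs : Ses a b c) (h1 : V 1 a) : h k 0 b = h k 0 a + h k 0 c := by
  obtain ⟨F, G, D, e0, e1, e2, e3⟩ := ranks k hs
  have h2 := h_eq_zero k h1
  have h3 := e1 0
  rw [zero_add, h2] at h3
  rw [e2 0, e0, e3 0]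
  omega

/-- If `H^i(F') → H^i(F)` is surjective for all `i`, then the long exact sequence splits. -/
theorem of_surj {S : ShortComplex X.Modules} (hS : S.ShortExact) (c1 : Coh.IsCoh S.X₁) (c2 : Coh.IsCoh S.X₂)
    (c3 : Coh.IsCoh S.X₃) (hs : ∀ i, Function.Surjective (VarietyA.EulerLES.mapA k S.f i)) :
    h k 0 (mc S.X₁) = h k 0 (mc S.X₂) ∧
      ∀ i, h k (i + 1) (mc S.X₁) = h k i (mc S.X₃) + h k (i + 1) (mc S.X₂) := by
  have f1 := Fga.HodgeSec.finite_HH' k c1
  have f2 := Fga.HodgeSec.finite_HH' k c2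
  have f3 := Fga.HodgeSec.finite_HH' k c3
  have e0 := VarietyA.EulerAdd.finrank_eq₀ k S hS
  have e1 := VarietyA.EulerAdd.finrank_eq₁ k S hS
  have e2 := VarietyA.EulerAdd.finrank_eq k S hS
  have e3 := VarietyA.EulerAdd.finrank_eq₃ k S hS
  have e4 : ∀ i, Module.finrank k (LinearMap.range (VarietyA.EulerLES.mapA k S.f i)) =
      Module.finrank k (Coh.HH X S.X₂ i) := fun i => by
    rw [LinearMap.range_eq_top.2 (hs i), finrank_top]
  simp only [h_mc]
  constructor
  · rw [e0, e4]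
  · intro i
    have h1 := e1 i
    have h2 := e2 i
    have h3 := e3 i
    have h4 := e4 i
    have h5 := e4 (i + 1)
    omega

end Ses

section Num

variable {X Z : Scheme.{u}} (k : Type u) [Field k] [X.Over (Spec (CommRingCat.of k))]
  [IsProper (X ↘ Spec (CommRingCat.of k))] [Z.Over (Spec (CommRingCat.of k))]
  [IsProper (Z ↘ Spec (CommRingCat.of k))] (f : X ⟶ Z)
  (hf : f ≫ (Z ↘ Spec (CommRingCat.of k)) = X ↘ Spec (CommRingCat.of k))

include hf in
theorem isProper_f : IsProper f := by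
  have h1 : IsProper (f ≫ (Z ↘ Spec (CommRingCat.of k))) := by rw [hf]; infer_instance
  exact IsProper.of_comp f (Z ↘ Spec (CommRingCat.of k))

include hf in
theorem h_zero (c : MC X) : h k 0 c = h k 0 (R f 0 c) := by
  induction c using MC.ind with | h L => ?_
  rw [R_mc, h_mc, h_mc, K456.LerayC.finrank_HH_zero f k hf L]
  exact (VarietyA.EulerLES.equivA k ((Scheme.Modules.pushforward f).rightDerivedZeroIsoSelf.app L) 0).finrank_eq.symm

include hf in
theorem h_succ {c : MC X} (hc : Co c) (hb : ∃ M : ℕ, ∀ i, M ≤ i → V i c) (hV : ∀ j m, V (m + 2) (R f j c)) (n : ℕ) :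
    h k (n + 1) c = h k 0 (R f (n + 1) c) + h k 1 (R f n c) := by
  have hp := isProper_f k f hf
  have hZ : IsLocallyNoetherian Z := isLocallyNoetherian k
  obtain ⟨M, hM⟩ := hb
  induction c using MC.ind with | h L => ?_
  exact K95.LerayTwo.finrank_HH_succ f k hf L M (fun j n => hV j n) (fun n => Fga.HodgeSec.finite_HH' k hc n)
    (fun n hn => hM n hn) (fun i n => Fga.HodgeSec.finite_HH' k (S0036.result f L hc i) n) n

include hf in
theorem h_eq {c : MC X} (hc : Co c) (hb : ∃ M : ℕ, ∀ i, M ≤ i → V i c) (hV : ∀ j m, V (m + 1) (R f j c)) (n : ℕ) :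
    h k n c = h k 0 (R f n c) := by
  cases n with
  | zero => exact h_zero k f hf c
  | succ n => rw [h_succ k f hf hc hb (fun j m => hV j (m + 1)), h_eq_zero k (hV n 0), add_zero]

variable {H : Z.Modules} (hH : CohB1.IsAmple H)

include hf hH in
/-- After a large twist, cohomology on `X` is `H⁰` of the direct images. -/
theorem exists_h_eq {c : MC X} (hc : Co c) (hb : ∃ M : ℕ, ∀ (u : (MC X)ˣ) i, M ≤ i → V i (u • c)) :
    ∃ l₀ : ℕ, ∀ l, l₀ ≤ l → ∀ j, h k j (pullU f ((unit hH.1) ^ l) • c) = h k 0 ((unit hH.1) ^ l • R f j c) := by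
  have hp := isProper_f k f hf
  have hZ : IsLocallyNoetherian Z := isLocallyNoetherian k
  have hZc : CompactSpace Z := QuasiCompact.compactSpace_of_compactSpace (Z ↘ Spec (CommRingCat.of k))
  obtain ⟨d, hd⟩ := CohqA.RelCoh.exists_bound_Rpush f
  choose N hN using fun j => serre k hH (Co_R f j hc)
  refine ⟨(Finset.range d).sup N, fun l hl j => ?_⟩
  have key : ∀ j m, V (m + 1) (R f j (pullU f ((unit hH.1) ^ l) • c)) := by
    intro j m
    rw [R_smul]
    by_cases hj : j < d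
    · exact hN j l ((Finset.le_sup (Finset.mem_range.2 hj)).trans hl) (m + 1) (Nat.succ_pos m)
    · refine V_of_Zr ?_ _
      have h1 : Zr (R f j c) := by
        induction c using MC.ind with | h L => ?_
        exact hd L hc.1 j (not_lt.1 hj)
      exact h1.smul _
  obtain ⟨M, hM⟩ := hb
  rw [h_eq k f hf (hc.smul _) ⟨M, hM _⟩ key, R_smul]

include hf hH in
/-- The long exact sequence of direct images splits into short exact sequences. -/
theorem split_of_h {a b c : MC X} (hs : Ses a b c) (ha : ∃ M : ℕ, ∀ (u : (MC X)ˣ) i, M ≤ i → V i (u • a))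
    (hb : ∃ M : ℕ, ∀ (u : (MC X)ˣ) i, M ≤ i → V i (u • b)) (hc : ∃ M : ℕ, ∀ (u : (MC X)ˣ) i, M ≤ i → V i (u • c))
    (hh : ∀ l j : ℕ, h k j (pullU f ((unit hH.1) ^ l) • b) = h k j (pullU f ((unit hH.1) ^ l) • a) +
      h k j (pullU f ((unit hH.1) ^ l) • c)) (j : ℕ) : Ses (R f j a) (R f j b) (R f j c) := by
  have hp := isProper_f k f hf
  have hZ : IsLocallyNoetherian Z := isLocallyNoetherian k
  obtain ⟨la, Ha⟩ := exists_h_eq k f hf hH hs.co₁ ha
  obtain ⟨lb, Hb⟩ := exists_h_eq k f hf hH hs.co₂ hb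
  obtain ⟨lc, Hc⟩ := exists_h_eq k f hf hH hs.co₃ hc
  obtain ⟨K, I, Q, -, s1, s2, s3⟩ := les f hs
  have hK : ∀ j, Zr (K j) := by
    intro j
    obtain ⟨l1, h1⟩ := serre k hH (s1 j).co₁
    obtain ⟨l2, h2⟩ := serre k hH (s2 j).co₁
    obtain ⟨l3, h3⟩ := serre k hH (s3 j).co₁
    refine zr_of_h_zero k hH (s1 j).co₁ ⟨la + lb + lc + l1 + l2 + l3, fun l hl => ?_⟩
    have e1 := h_zero_add k ((s1 j).smul ((unit hH.1) ^ l)) (h1 l (by omega) 1 one_pos)
    have e2 := h_zero_add k ((s2 j).smul ((unit hH.1) ^ l)) (h2 l (by omega) 1 one_pos)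
    have e3 := h_zero_add k ((s3 j).smul ((unit hH.1) ^ l)) (h3 l (by omega) 1 one_pos)
    have e4 := hh l j
    rw [Ha l (by omega) j, Hb l (by omega) j, Hc l (by omega) j] at e4
    omega
  have e1 := eq_of_Zr_left (s1 j) (hK j)
  have e2 := eq_of_Zr_right (s3 j) (hK (j + 1))
  rw [e1, ← e2]
  exact s2 j

include hf in
/-- Vanishing of the higher cohomology of the `R^j a`. -/
theorem van_of_h {a b c : MC X} (hs : Ses a b c) (ha : ∃ M : ℕ, ∀ i, M ≤ i → V i a)
    (hb : ∃ M : ℕ, ∀ i, M ≤ i → V i b) (hc : ∃ M : ℕ, ∀ i, M ≤ i → V i c)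
    (hR : ∀ j, Ses (R f j a) (R f j b) (R f j c)) (hh : ∀ j : ℕ, h k j b = h k j a + h k j c)
    (vb : ∀ j m, V (m + 1) (R f j b)) (vc : ∀ j m, V (m + 1) (R f j c)) (j m : ℕ) : V (m + 1) (R f j a) := by
  have hp := isProper_f k f hf
  have hZ : IsLocallyNoetherian Z := isLocallyNoetherian k
  have v2 : ∀ j m, V (m + 2) (R f j a) := fun j m => (hR j).V_left (vc j m) (vb j (m + 1))
  cases m with
  | succ m => exact v2 j m
  | zero =>
    refine V_of_h k (Co_R f j hs.co₁) ?_
    have e1 := h_succ k f hf hs.co₁ ha v2 j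
    have e2 := h_eq k f hf hs.co₂ hb vb (j + 1)
    have e3 := h_eq k f hf hs.co₃ hc vc (j + 1)
    have e4 := hh (j + 1)
    have e5 := h_zero_add_one k (hR (j + 1)) (vb (j + 1) 0)
    rw [zero_add]
    omega

end Num

end K95.RpNum
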